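import Cfsg.Agent.H73.Bender.QuadPair
import Cfsg.Agent.H26.Bender.Bound
import Cfsg.Agent.H73.Bender.Climb
import Cfsg.Agent.Coprime.Action

/-!
An action in which the prime `p` does not divide the number of involutions at a point modulo the
kernel: invariant pair Sylow subgroups are centralised modulo the kernel.
-/

set_option autoImplicit false
set_option linter.style.haveILetI false

namespace Cfsg.Agent.H30.Bender

open Subgroup MulAction
open Cfsg.Agent.H39
open Cfsg.Agent.H29.Bender (IsSyl)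
open Cfsg.Agent.H73.Bender
open scoped commutatorElement

universe u v

variable {G : Type u} [Group G] [Finite G] {Ω : Type v} [MulAction G Ω] [Finite Ω]
variable {S : Subgroup G} {C : Set Ω}

/-- The number of involutions modulo the kernel is the same at every point. -/
theorem invBar_eq (hS : SE S C) {c x : Ω} (hc : c ∈ C) (hx : x ∈ C) :
    invBar S C c = invBar S C x := by
  classical
  obtain ⟨g, hg, rfl⟩ := hS.trans hc hx
  have hN := le_normalizer_kernel hS hg
  have hcj : ∀ (g : G), g ∈ S → ∀ t s : G,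
      ((t : G ⧸ kernel S C) = (s : G ⧸ kernel S C)) →
      ((g * t * g⁻¹ : G) : G ⧸ kernel S C) = ((g * s * g⁻¹ : G) : G ⧸ kernel S C) := by
    intro g hg t s h
    refine QuotientGroup.eq.mpr ?_
    have h2 := (Subgroup.mem_normalizer_iff.mp (le_normalizer_kernel hS hg) _).mp
      (QuotientGroup.eq.mp h)
    simpa [mul_assoc] using h2
  unfold invBar
  refine Nat.card_congr (Equiv.ofBijective
    (fun q => ⟨((g * Quotient.out q.1 * g⁻¹ : G) : G ⧸ kernel S C), ?_⟩) ⟨?_, ?_⟩)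
  · obtain ⟨t, ⟨ht, ht2, htc⟩, htq⟩ := q.2
    refine ⟨g * t * g⁻¹, ⟨conj_mem_of_mem hg ht, by rw [orderOf_conj, ht2], conj_smul_of_smul htc⟩,
      hcj g hg _ _ ?_⟩
    rw [QuotientGroup.out_eq']
    exact htq
  · intro q r h
    have h' := congrArg Subtype.val h
    have := hcj g⁻¹ (inv_mem hg) _ _ h'
    simp only [inv_inv, ← mul_assoc, inv_mul_cancel, one_mul, inv_mul_cancel_right,
      QuotientGroup.out_eq'] at this
    exact Subtype.ext this
  · rintro ⟨-, t, ⟨ht, ht2, htx⟩, rfl⟩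
    have hmem : g⁻¹ * t * g ∈ {t | t ∈ S ∧ orderOf t = 2 ∧ t • c = c} := by
      refine ⟨mul_mem (mul_mem (inv_mem hg) ht) hg, ?_, ?_⟩
      · have := orderOf_conj g⁻¹ t
        rw [inv_inv] at this
        rw [this, ht2]
      · rw [mul_smul, mul_smul, htx, inv_smul_smul]
    refine ⟨⟨((g⁻¹ * t * g : G) : G ⧸ kernel S C), _, hmem, rfl⟩, Subtype.ext ?_⟩
    refine (hcj g hg _ (g⁻¹ * t * g) (QuotientGroup.out_eq' _)).trans ?_
    simp [mul_assoc]

variable {c x : Ω} {w : G}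

omit [Finite G] [Finite Ω] in
theorem conj_eq_commutator_mul (d w : G) : d * w * d⁻¹ = ⁅d, w⁆ * w := by
  rw [commutatorElement_def]; group

omit [Finite Ω] in
/-- Elements of a pair stabiliser centralising `w` modulo the kernel fix the point of `w`. -/
theorem pair_inf_centMod (hS : SE S C) (hc : c ∈ C) (hx : x ∈ C) (hw : w ∈ S)
    (hw2 : orderOf w = 2) (hwc : w • c = c) :
    pair S x (w • x) ⊓ centMod hS {w} = pair S c x ⊓ centMod hS {w} := by
  ext d
  simp only [mem_inf, mem_pair]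
  have hkey : d ∈ centMod hS {w} → ∀ z ∈ C, ⁅d, w⁆ • z = z := fun h z hz =>
    (mem_kernel.mp (h.2 w rfl)).2 z hz
  constructor
  · rintro ⟨⟨hd, hdx, -⟩, hm⟩
    refine ⟨⟨hd, ?_, hdx⟩, hm⟩
    refine hS.fix_unique (conj_mem_of_mem hd hw) (by rw [orderOf_conj, hw2]) (hS.smul_mem hd hc) hc
      (conj_smul_of_smul hwc) ?_
    rw [conj_eq_commutator_mul, mul_smul, hwc, hkey hm c hc]
  · rintro ⟨⟨hd, -, hdx⟩, hm⟩
    refine ⟨⟨hd, hdx, ?_⟩, hm⟩
    rw [← mul_smul, show d * w = d * w * d⁻¹ * d by group, conj_eq_commutator_mul, mul_smul,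
      mul_smul, hdx, hkey hm _ (hS.smul_mem hw hx)]

/-- A pair stabiliser at the point of `w` is `invBar` times its centraliser of `w` modulo the
kernel. -/
theorem card_pair_eq_invBar_mul (hS : SE S C) (hc : c ∈ C) (hx : x ∈ C) (hcx : c ≠ x) (hw : w ∈ S)
    (hw2 : orderOf w = 2) (hwc : w • c = c) :
    Nat.card (pair S c x) =
      invBar S C c * Nat.card (pair S c x ⊓ centMod hS {w} : Subgroup G) := by
  classical
  set D := pair S c x with hD
  set K := kernel S C with hK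
  set A : Set G := {t | t ∈ S ∧ orderOf t = 2 ∧ t • c = c} with hA
  set H := D ⊓ centMod hS {w} with hH
  have hex : ∀ v : ((fun t : G => (t : G ⧸ K)) '' A),
      ∃ d ∈ D, ((d * w * d⁻¹ : G) : G ⧸ K) = v.1 := by
    rintro ⟨-, t, ⟨ht, ht2, htc⟩, rfl⟩
    obtain ⟨d, hd, rfl⟩ := hS.fix_conj hc hx hcx hw ht hw2 ht2 hwc htc
    exact ⟨d, hd, rfl⟩
  choose r hr hrv using hex
  have hDS : ∀ {d : G}, d ∈ D → d ∈ S := fun hd => (mem_pair.mp hd).1
  have hKconj : ∀ {g k : G}, g ∈ S → k ∈ K → g * k * g⁻¹ ∈ K := fun hg hk =>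
    (Subgroup.mem_normalizer_iff.mp (le_normalizer_kernel hS hg) _).mp hk
  have key : ∀ v (h : H), ((r v * h * w * (r v * h)⁻¹ : G) : G ⧸ K) = v.1 := by
    intro v h
    refine (QuotientGroup.eq.mpr ?_).trans (hrv v)
    have e : (r v * h * w * (r v * (h : G))⁻¹)⁻¹ * (r v * w * (r v)⁻¹) =
        r v * (w⁻¹ * ⁅(h : G), w⁆⁻¹ * w) * (r v)⁻¹ := by
      rw [commutatorElement_def]; group
    rw [e]
    refine hKconj (hDS (hr v)) ?_
    have := hKconj (inv_mem hw) (inv_mem ((mem_inf.mp h.2).2.2 w rfl))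
    rwa [inv_inv] at this
  rw [invBar, ← Nat.card_prod]
  symm
  refine Nat.card_eq_of_bijective
    (fun q => (⟨r q.1 * (q.2 : G), mul_mem (hr q.1) (mem_inf.mp q.2.2).1⟩ : D)) ⟨?_, ?_⟩
  · intro q q' h
    have h' : r q.1 * (q.2 : G) = r q'.1 * (q'.2 : G) := congrArg Subtype.val h
    have h1 : q.1 = q'.1 := Subtype.ext (by rw [← key q.1 q.2, ← key q'.1 q'.2, h'])
    refine Prod.ext h1 (Subtype.ext ?_)
    rw [h1] at h'
    exact mul_left_cancel h'
  · rintro ⟨d, hd⟩
    let v : ((fun t : G => (t : G ⧸ K)) '' A) := ⟨((d * w * d⁻¹ : G) : G ⧸ K), d * w * d⁻¹,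
      ⟨conj_mem_of_mem (hDS hd) hw, by rw [orderOf_conj, hw2], by
        have := conj_smul_of_smul (g := d) hwc
        rwa [(mem_pair.mp hd).2.1] at this⟩, rfl⟩
    have hv := QuotientGroup.eq.mp (hrv v)
    refine ⟨(v, ⟨(r v)⁻¹ * d, mem_inf.mpr ⟨mul_mem (inv_mem (hr v)) hd,
      mul_mem (inv_mem (hDS (hr v))) (hDS hd), fun j hj => ?_⟩⟩), Subtype.ext (by simp)⟩
    rw [Set.mem_singleton_iff.mp hj]
    have := hKconj hw (hKconj (inv_mem (hDS (hr v))) hv)
    have e : ⁅(r v)⁻¹ * d, w⁆ =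
        w * ((r v)⁻¹ * ((r v * w * (r v)⁻¹)⁻¹ * (d * w * d⁻¹)) * (r v)⁻¹⁻¹) * w⁻¹ := by
      rw [commutatorElement_def]; group
    rw [e]
    exact this

variable {p : ℕ} [Fact p.Prime]

/-- Where `p` does not divide `invBar`, an invariant Sylow subgroup of a pair stabiliser is
centralised by the swapper modulo the kernel, so fixes its point. -/
theorem le_centMod_of_not_dvd (hS : SE S C) (hc : c ∈ C) (hx : x ∈ C) (hcx : c ≠ x) (hw : w ∈ S)
    (hw2 : orderOf w = 2) (hwc : w • c = c) (hdvd : ¬ p ∣ invBar S C c) {Q : Subgroup G}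
    (hQ : IsSyl p (pair S x (w • x)) Q) (hwQ : w ∈ normalizer (Q : Set G)) :
    Q ≤ pair S c x ⊓ centMod hS {w} := by
  have hxy : x ≠ w • x := fun h => hcx (hS.fix_unique hw hw2 hc hx hwc h.symm)
  have hodd := hS.odd_pair hx (hS.smul_mem hw hx) hxy
  set D := pair S x (w • x) with hD
  set H := D ⊓ centMod hS {w} with hH
  have hwD : w ∈ normalizer (D : Set G) := H26.Bender.mem_normalizer_pair hw hw2 rfl
  have hwC : w ∈ centMod hS {w} := ⟨hw, fun j hj => by
    rw [Set.mem_singleton_iff.mp hj, commutatorElement_self]; exact one_mem _⟩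
  have hwH : w ∈ normalizer (H : Set G) := by
    rw [Subgroup.mem_normalizer_iff]
    intro z
    rw [hH, mem_inf, mem_inf]
    exact and_congr (Subgroup.mem_normalizer_iff.mp hwD z)
      (Subgroup.mem_normalizer_iff.mp (Subgroup.le_normalizer hwC) z)
  have hcard : Nat.card D = invBar S C c * Nat.card H := by
    rw [hH, hD, pair_inf_centMod hS hc hx hw hw2 hwc, ← card_pair_eq_invBar_mul hS hc hx hcx hw
      hw2 hwc, hS.card_pair_eq hx (hS.smul_mem hw hx) hc hxy hw hw2 rfl hwc]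
  have hfac : (Nat.card D).factorization p = (Nat.card H).factorization p := by
    have h0 : invBar S C c ≠ 0 := fun h => by rw [h, zero_mul] at hcard; exact Nat.card_pos.ne' hcard
    rw [hcard, Nat.factorization_mul h0 Nat.card_pos.ne', Finsupp.coe_add, Pi.add_apply,
      Nat.factorization_eq_zero_of_not_dvd hdvd, zero_add]
  have hcop : (Nat.card (zpowers w)).Coprime (Nat.card D) := by
    rw [Nat.card_zpowers, hw2]; exact hodd.coprime_two_left
  obtain ⟨P, hP⟩ := Coprime.exists_invariant_sylow (A := zpowers w) (K := H)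
    (zpowers_le.mpr hwH) (hcop.coprime_dvd_right (card_dvd_of_le inf_le_left))
    (Or.inl (Coprime.isSolvable_zpowers w)) p
  set P' : Subgroup G := (P : Subgroup H).map H.subtype with hP'
  have hP'H : P' ≤ H := map_subtype_le _
  have hP'D : IsSyl p D P' := ⟨hP'H.trans inf_le_left, P.2.map _, fun R hR hRp =>
    (hQ.max R hR hRp).trans_eq (by
      rw [hQ.card_eq, hfac, hP', (H29.Bender.sylow_map P).card_eq])⟩
  obtain ⟨d, hd, hdQ⟩ := hP'D.exists_conj hQ
  obtain ⟨e, he, heQ⟩ := Coprime.exists_centralizer_conj (A := zpowers w) (K := D)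
    (zpowers_le.mpr hwD) hcop (Or.inl (Coprime.isSolvable_zpowers w)) hP (zpowers_le.mpr hwQ) hd hdQ
  have heH : e ∈ H := mem_inf.mpr ⟨he.1, (mem_pair.mp he.1).1, fun j hj => by
    rw [Set.mem_singleton_iff.mp hj]
    have h := mem_centralizer_iff.mp he.2 w (mem_zpowers w)
    rw [commutatorElement_eq_one_iff_mul_comm.mpr h.symm]
    exact one_mem _⟩
  rw [← pair_inf_centMod hS hc hx hw hw2 hwc, ← heQ]
  exact H29.Bender.map_conj_le hP'H (Subgroup.le_normalizer heH)

/-- The same Sylow subgroup is normalised by an involution at `x`. -/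
theorem exists_inv_at_of_not_dvd (hS : SE S C) (hc : c ∈ C) (hx : x ∈ C) (hcx : c ≠ x) (hw : w ∈ S)
    (hw2 : orderOf w = 2) (hwc : w • c = c) (hdvd : ¬ p ∣ invBar S C c) {Q : Subgroup G}
    (hQ : IsSyl p (pair S x (w • x)) Q) (hwQ : w ∈ normalizer (Q : Set G)) :
    x ∈ points (S ⊓ normalizer (Q : Set G)) C ∧ c ∈ points (S ⊓ normalizer (Q : Set G)) C := by
  have hxy : x ≠ w • x := fun h => hcx (hS.fix_unique hw hw2 hc hx hwc h.symm)
  have hQ' : IsSyl p (pair S c x) Q := by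
    refine ⟨(le_centMod_of_not_dvd hS hc hx hcx hw hw2 hwc hdvd hQ hwQ).trans inf_le_left,
      hQ.pgroup, fun R hR hRp => ?_⟩
    obtain ⟨T, hRT, hT⟩ := H29.Bender.exists_isSyl_ge hR hRp
    refine (Subgroup.card_le_of_le hRT).trans (le_of_eq ?_)
    rw [hT.card_eq, hQ.card_eq, hS.card_pair_eq hx (hS.smul_mem hw hx) hc hxy hw hw2 rfl hwc]
  obtain ⟨i, hi, hi2, hic, hiQ⟩ := hS.exists_swapper hc hx hcx hQ'
  have hn : i * w * i⁻¹ ∈ normalizer (Q : Set G) := mul_mem (mul_mem hiQ hwQ) (inv_mem hiQ)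
  refine ⟨⟨hx, i * w * i⁻¹, ⟨conj_mem_of_mem hi hw, hn⟩,
    by rw [orderOf_conj, hw2], ?_⟩, hc, w, ⟨hw, hwQ⟩, hw2, hwc⟩
  have := conj_smul_of_smul (g := i) hwc
  rwa [hic] at this

end Cfsg.Agent.H30.Bender
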