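import Cfsg.Agent.H73.Bender.QuadPair
import Cfsg.Agent.H73.Bender.SecTwo

/-!
The quadratic pair lemma for a section: the hypotheses are only required modulo a normal subgroup
inside the kernel.
-/

set_option autoImplicit false
set_option linter.style.haveILetI false

namespace Cfsg.Agent.H30.Bender

open Subgroup MulAction
open Cfsg.Agent.H39
open Cfsg.Agent.H73.Bender
open scoped commutatorElement

universe u v

variable {G : Type u} [Group G] {Ω : Type v} [MulAction G Ω] {S : Subgroup G} {C : Set Ω}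

/-- The action of `S` modulo a subgroup of the kernel on `C`. -/
@[reducible] def modAction (hS : SE S C) {M : Subgroup G} [(M.subgroupOf S).Normal]
    (hMK : M ≤ kernel S C) : MulAction (S ⧸ M.subgroupOf S) C :=
  MulAction.compHom C (QuotientGroup.lift (M.subgroupOf S) (linePerm hS) fun _ hs =>
    kerIn_le_ker hS (hMK hs))

variable [Finite G]

/-- Q2 for the section `Y / M`. -/
theorem quadratic_pair_mod [Finite Ω] (hCent : Targets.Cent.{u, v}) (hS : SE S C) (h2 : RankTwo S)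
    (hG : Good S C) {q : ℕ} [Fact q.Prime] (hq : q ≠ 2) {x y : Ω} (hx : x ∈ C) (hy : y ∈ C)
    (hxy : x ≠ y) (hdvd : q ∣ invBar S C x) {Y M R : Subgroup G} (hMK : M ≤ kernel S C)
    (hMN : S ≤ normalizer (M : Set G)) (hYS : Y ≤ S) (hYN : S ≤ normalizer (Y : Set G))
    (hYM : ⁅Y, Y⁆ ≤ M) (hYp : IsPGroup q Y)
    (hinv : ∀ t ∈ S, orderOf t = 2 → ∃ v ∈ Y, ⁅t, v⁆ ∉ M)
    (hR : R ≤ pair S x y) (hRp : IsPGroup q R) {w : G} (hw : w ∈ S)
    (hwR : w ∈ normalizer (R : Set G)) {a : G} (ha : a ∈ R)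
    (hquad : ∀ v ∈ Y, ⁅a, ⁅a, v⁆⁆ ∈ M) (haK : a ∉ kernel S C) :
    ∃ C' : Set Ω, C' ⊆ C ∧ C' ≠ C ∧ x ∈ C' ∧ y ∈ C' ∧ SE (setStab S C') C' ∧
      RankTwo (setStab S C') ∧ R ≤ setStab S C' ∧ w ∈ setStab S C' ∧ ∀ z ∈ C', a • z = z := by
  classical
  set M' := M.subgroupOf S with hM'
  haveI hMn : M'.Normal := normal_subgroupOf_of_le_normalizer hMN
  letI : MulAction (S ⧸ M') C := modAction hS hMK
  set π : S →* S ⧸ M' := QuotientGroup.mk' M' with hπ
  have hπs : Function.Surjective π := QuotientGroup.mk'_surjective M'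
  have hval : ∀ (s : S) (z : C), ((π s • z : C) : Ω) = (s : G) • z.1 := fun s z => rfl
  have hone : ∀ {s : S}, π s = 1 ↔ (s : G) ∈ M := fun {s} =>
    (QuotientGroup.eq_one_iff s).trans mem_subgroupOf
  have hM'odd : Odd (Nat.card M') := by
    refine hS.odd_kernel.of_dvd_nat ?_
    rw [← card_map_of_injective S.subtype_injective]
    exact card_dvd_of_le fun _ ⟨s, hs, h⟩ => h ▸ hMK hs
  have hlift : ∀ u : S ⧸ M', orderOf u = 2 → ∃ t : S, orderOf (t : G) = 2 ∧ π t = u := by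
    intro u hu
    obtain ⟨g, rfl⟩ := hπs u
    have h2 : g * g ∈ M' := by
      rw [← QuotientGroup.eq_one_iff]; exact mul_self_of_orderOf_eq_two hu
    have hg : g ∉ M' := fun h => by
      rw [show π g = 1 from (QuotientGroup.eq_one_iff g).mpr h, orderOf_one] at hu
      exact absurd hu (by norm_num)
    obtain ⟨k, hk⟩ := H29.Bender.exists_involution_of_sq hM'odd h2 hg
    refine ⟨_, (Subgroup.orderOf_coe _).trans hk, ?_⟩
    rw [map_mul, show π ((g * g) ^ k) = 1 from (QuotientGroup.eq_one_iff _).mpr (pow_mem h2 k),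
      mul_one]
  have hinvπ : ∀ {t : S}, orderOf (t : G) = 2 → orderOf (π t) = 2 := fun {t} ht => by
    refine orderOf_eq_two_of_mul_self ?_ fun h => ?_
    · rw [← map_mul, show t * t = 1 from Subtype.ext (mul_self_of_orderOf_eq_two ht), map_one]
    · have hd := hS.odd_kernel.of_dvd_nat
        (orderOf_dvd_natCard (⟨(t : G), hMK (hone.mp h)⟩ : kernel S C))
      rw [Subgroup.orderOf_mk, ht] at hd
      exact absurd hd (by decide)
  have hcomm : ∀ s t : S, π ⁅s, t⁆ = ⁅π s, π t⁆ := fun s t => map_commutatorElement π s t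
  -- the action of the quotient
  have hSE : SE (⊤ : Subgroup (S ⧸ M')) (Set.univ : Set C) := by
    refine ⟨fun {_} _ {_} _ => Set.mem_univ _, fun {x' y'} _ _ => ?_, fun {u} _ hu => ?_,
      fun {u} _ hu {x' y'} _ _ hx' hy' => ?_, ?_, ?_⟩
    · obtain ⟨g, hg, hgx⟩ := hS.trans x'.2 y'.2
      exact ⟨π ⟨g, hg⟩, mem_top _, Subtype.ext hgx⟩
    · obtain ⟨t, ht, rfl⟩ := hlift u hu
      obtain ⟨z, hz, htz⟩ := hS.exists_fix t.2 ht
      exact ⟨⟨z, hz⟩, Set.mem_univ _, Subtype.ext htz⟩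
    · obtain ⟨t, ht, rfl⟩ := hlift u hu
      exact Subtype.ext (hS.fix_unique t.2 ht x'.2 y'.2 (congrArg Subtype.val hx')
        (congrArg Subtype.val hy'))
    · exact ⟨⟨x, hx⟩, Set.mem_univ _, ⟨y, hy⟩, Set.mem_univ _,
        fun h => hxy (congrArg Subtype.val h)⟩
    · obtain ⟨t, ht, ht2⟩ := hS.exists_inv
      exact ⟨π ⟨t, ht⟩, mem_top _, hinvπ ht2⟩
  have hrank : RankTwo (⊤ : Subgroup (S ⧸ M')) := by
    obtain ⟨s, hs, t, ht, hs2, ht2, hne, hc⟩ := h2
    refine ⟨π ⟨s, hs⟩, mem_top _, π ⟨t, ht⟩, mem_top _, hinvπ hs2, hinvπ ht2, fun h => ?_,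
      (show Commute (⟨s, hs⟩ : S) ⟨t, ht⟩ from Subtype.ext hc.eq).map π⟩
    have hst : orderOf (s * t) = 2 := orderOf_eq_two_of_mul_self (by
      calc s * t * (s * t) = s * (t * s) * t := by group
        _ = 1 := by
          rw [← hc.eq, ← mul_assoc, mul_self_of_orderOf_eq_two hs2, one_mul,
            mul_self_of_orderOf_eq_two ht2]) fun h1 => hne (by
      rw [eq_inv_of_mul_eq_one_left h1, inv_eq_of_orderOf_eq_two ht2])
    have h1 := hinvπ (t := ⟨s, hs⟩ * ⟨t, ht⟩) hst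
    rw [map_mul, h, ← map_mul,
      show (⟨t, ht⟩ * ⟨t, ht⟩ : S) = 1 from Subtype.ext (mul_self_of_orderOf_eq_two ht2),
      map_one, orderOf_one] at h1
    exact absurd h1 (by norm_num)
  have hgood : Good (⊤ : Subgroup (S ⧸ M')) (Set.univ : Set C) := by
    intro u _ hu j _ hinv' a₀ _ b₀ _ hab hua hja hjb z _
    obtain ⟨t, ht, rfl⟩ := hlift u hu
    obtain ⟨g, rfl⟩ := hπs j
    have hga : (g : G) • a₀.1 = a₀.1 := congrArg Subtype.val hja
    have hgb : (g : G) • b₀.1 = b₀.1 := congrArg Subtype.val hjb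
    -- `[g, t]` is inverted by `t` and agrees with `g ^ 2` modulo `M`
    have hk : (((⁅g, t⁆)⁻¹ * (g * g) : S) : G) ∈ M := by
      rw [← hone, map_mul, map_inv, hcomm, map_mul, commutatorElement_def]
      have e : π t * (π g)⁻¹ * (π t)⁻¹ = π g := by
        simpa [mul_assoc] using congrArg Inv.inv hinv'
      rw [mul_assoc (π g) (π t), mul_assoc (π g), e]
      group
    have hfix : ∀ z ∈ C, (⁅(g : G), (t : G)⁆ : G)⁻¹ • (((g : G) * g) • z) = z := fun z hz => by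
      have := (mem_kernel.mp (hMK hk)).2 z hz
      simpa [mul_smul, commutatorElement_def] using this
    have hca : ∀ d : C, (g : G) • d.1 = d.1 → ⁅(g : G), (t : G)⁆ • d.1 = d.1 := fun d hd => by
      have := hfix d.1 d.2
      rw [mul_smul, hd, hd, inv_smul_eq_iff] at this
      exact this.symm
    have hall := hG t t.2 ht ⁅(g : G), (t : G)⁆ (by
        rw [commutatorElement_def]
        exact S.mul_mem (S.mul_mem (S.mul_mem g.2 t.2) (S.inv_mem g.2)) (S.inv_mem t.2))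
      (by
        simp only [commutatorElement_def, mul_inv_rev, inv_inv, inv_eq_of_orderOf_eq_two ht,
          mul_assoc, mul_self_of_orderOf_eq_two ht, mul_one])
      a₀.1 a₀.2 b₀.1 b₀.2 (fun h => hab (Subtype.ext h)) (congrArg Subtype.val hua)
      (hca a₀ hga) (hca b₀ hgb) z.1 z.2
    have hgg : ((g : G) * g) • z.1 = z.1 := by
      have := hfix z.1 z.2
      rw [inv_smul_eq_iff, hall] at this
      exact this
    obtain ⟨m, hm⟩ : Odd (orderOf (g : G)) := by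
      rw [← Subgroup.orderOf_mk (g : G) (mem_pair.mpr ⟨g.2, hga, hgb⟩)]
      exact (hS.odd_pair a₀.2 b₀.2 fun h => hab (Subtype.ext h)).of_dvd_nat (orderOf_dvd_natCard _)
    refine Subtype.ext ((hval g z).trans ?_)
    have hpow : ((g : G) * g) ^ (m + 1) = g := by
      rw [← sq, ← pow_mul, show 2 * (m + 1) = orderOf (g : G) + 1 by omega, pow_succ,
        pow_orderOf_eq_one, one_mul]
    have hmem : ((g : G) * g) ^ (m + 1) ∈ stabilizer G z.1 :=
      pow_mem (MulAction.mem_stabilizer_iff.mpr hgg) _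
    rw [hpow] at hmem
    exact hmem
  set K := kernel S C with hK
  set K' := kernel (⊤ : Subgroup (S ⧸ M')) (Set.univ : Set C) with hK'
  have hker : ∀ {s : S}, π s ∈ K' ↔ (s : G) ∈ K := fun {s} => by
    rw [hK', hK, mem_kernel, mem_kernel]
    exact ⟨fun h => ⟨s.2, fun z hz => congrArg Subtype.val (h.2 ⟨z, hz⟩ (Set.mem_univ _))⟩,
      fun h => ⟨mem_top _, fun z _ => Subtype.ext (h.2 z.1 z.2)⟩⟩
  have hdvd' : q ∣ invBar (⊤ : Subgroup (S ⧸ M')) (Set.univ : Set C) ⟨x, hx⟩ := by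
    convert hdvd using 1
    unfold invBar
    choose rep hrepA hrep using fun v : ((fun t : G => (t : G ⧸ K)) ''
      {t | t ∈ S ∧ orderOf t = 2 ∧ t • x = x}) => v.2
    symm
    refine Nat.card_congr (Equiv.ofBijective (fun v =>
      ⟨((π ⟨rep v, (hrepA v).1⟩ : S ⧸ M') : (S ⧸ M') ⧸ K'), _,
        ⟨mem_top _, hinvπ (t := ⟨rep v, (hrepA v).1⟩) (hrepA v).2.1, Subtype.ext (hrepA v).2.2⟩, rfl⟩) ⟨fun v v' h => ?_, ?_⟩)
    · have h' := QuotientGroup.eq.mp (congrArg Subtype.val h)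
      rw [← map_inv, ← map_mul, hker] at h'
      apply Subtype.ext
      rw [← hrep v, ← hrep v']
      exact QuotientGroup.eq.mpr h'
    · rintro ⟨-, u, ⟨-, hu, hux⟩, rfl⟩
      obtain ⟨t, ht, rfl⟩ := hlift u hu
      refine ⟨⟨((t : G) : G ⧸ K), t, ⟨t.2, ht, congrArg Subtype.val hux⟩, rfl⟩, Subtype.ext ?_⟩
      refine QuotientGroup.eq.mpr ?_
      rw [← map_inv, ← map_mul, hker]
      exact QuotientGroup.eq.mp (hrep _)
  set V := (Y.subgroupOf S).map π with hV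
  have hVc : IsMulCommutative V := ⟨⟨fun u u' => Subtype.ext (by
    obtain ⟨⟨_, s, hs, rfl⟩, ⟨_, s', hs', rfl⟩⟩ := u, u'
    change π s * π s' = π s' * π s
    rw [← commutatorElement_eq_one_iff_mul_comm, ← hcomm, hone]
    exact hYM (commutator_mem_commutator hs hs'))⟩⟩
  have hVN : (⊤ : Subgroup (S ⧸ M')) ≤ normalizer (V : Set (S ⧸ M')) := by
    intro u _
    obtain ⟨s, rfl⟩ := hπs u
    refine le_normalizer_map π ⟨s, ?_, rfl⟩
    exact Subgroup.mem_normalizer_iff.mpr fun r => Subgroup.mem_normalizer_iff.mp (hYN s.2) (r : G)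
  have hCodd : Odd (Nat.card ((⊤ : Subgroup (S ⧸ M')) ⊓ centralizer (V : Set (S ⧸ M')) :
      Subgroup (S ⧸ M'))) := by
    rw [← Nat.not_even_iff_odd, even_iff_two_dvd]
    intro h
    obtain ⟨u, hu⟩ := exists_prime_orderOf_dvd_card' 2 h
    rw [← Subgroup.orderOf_coe] at hu
    obtain ⟨t, ht, htu⟩ := hlift u.1 hu
    obtain ⟨v, hv, hvM⟩ := hinv t t.2 ht
    refine hvM ((hone (s := ⁅t, (⟨v, hYS hv⟩ : S)⁆)).mp ?_)
    rw [hcomm, commutatorElement_eq_one_iff_mul_comm]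
    have := mem_centralizer_iff.mp (mem_inf.mp u.2).2 _ ⟨⟨v, hYS hv⟩, hv, rfl⟩
    rw [← htu] at this
    exact this.symm
  set R' := (R.subgroupOf S).map π with hR'
  have hRS : R ≤ S := hR.trans inf_le_left
  have hR'le : R' ≤ pair (⊤ : Subgroup (S ⧸ M')) (⟨x, hx⟩ : C) ⟨y, hy⟩ := by
    rintro _ ⟨s, hs, rfl⟩
    exact mem_pair.mpr ⟨mem_top _, Subtype.ext (mem_pair.mp (hR hs)).2.1,
      Subtype.ext (mem_pair.mp (hR hs)).2.2⟩
  obtain ⟨C', -, hne, hx', hy', hSE', h2', hRC, hwC, hfix⟩ := quadratic_pair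
    (G := S ⧸ M') (Ω := C) (S := ⊤) (C := Set.univ) (q := q) hCent
    (fun T L d hT hGT hd hdv => rankTwoOfDvd (S ⧸ M') C T L q d hT hGT hd hdv)
    hSE hrank hgood hq (x := ⟨x, hx⟩) (y := ⟨y, hy⟩) (Set.mem_univ _) (Set.mem_univ _)
    (fun h => hxy (congrArg Subtype.val h)) hdvd' (V := V) (R := R') le_top hVc
    (hYp.comap_subtype.map π) hVN hCodd hR'le (hRp.comap_subtype.map π) (w := π ⟨w, hw⟩)
    (mem_top _)
    (le_normalizer_map π ⟨⟨w, hw⟩, Subgroup.mem_normalizer_iff.mpr fun r =>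
      Subgroup.mem_normalizer_iff.mp hwR (r : G), rfl⟩)
    (a := π ⟨a, hRS ha⟩) ⟨⟨a, hRS ha⟩, ha, rfl⟩
    (by
      rintro _ ⟨s, hs, rfl⟩
      rw [← hcomm, ← hcomm, hone]
      exact hquad s hs)
    (fun h => haK (hker.mp h))
  -- back to `Ω`
  have hsub : Subtype.val '' C' ⊆ C := fun _ ⟨z, _, h⟩ => h ▸ z.2
  have hst : ∀ {s : S}, π s ∈ setStab ⊤ C' ↔ (s : G) ∈ setStab S (Subtype.val '' C') := by
    intro s
    constructor
    · intro h
      refine mem_setStab s.2 ?_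
      rintro _ ⟨z, hz, rfl⟩
      exact ⟨π s • z, smul_mem_of_mem_setStab h hz, rfl⟩
    · intro h
      refine mem_setStab (mem_top _) fun z hz => ?_
      obtain ⟨z', hz', e⟩ := smul_mem_of_mem_setStab h (Set.mem_image_of_mem _ hz)
      rwa [← show z' = π s • z from Subtype.ext e]
  refine ⟨Subtype.val '' C', hsub, fun h => hne (Set.eq_univ_of_forall fun z => ?_),
    ⟨_, hx', rfl⟩, ⟨_, hy', rfl⟩, ?_, ?_,
    fun r hr => (hst (s := ⟨r, hRS hr⟩)).mp (hRC ⟨⟨r, hRS hr⟩, hr, rfl⟩),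
    (hst (s := ⟨w, hw⟩)).mp hwC, ?_⟩
  · obtain ⟨z', hz', e⟩ : z.1 ∈ Subtype.val '' C' := h.symm ▸ z.2
    rwa [← Subtype.ext e]
  · refine ⟨fun {_} hg {_} hz => smul_mem_of_mem_setStab hg hz, ?_, ?_, ?_, ?_, ?_⟩
    · rintro _ _ ⟨z, hz, rfl⟩ ⟨z', hz', rfl⟩
      obtain ⟨u, hu, huz⟩ := hSE'.trans hz hz'
      obtain ⟨s, rfl⟩ := hπs u
      exact ⟨s, hst.mp hu, congrArg Subtype.val huz⟩
    · intro t ht ht2
      obtain ⟨z, hz, htz⟩ := hSE'.exists_fix ((hst (s := ⟨t, setStab_le S _ ht⟩)).mpr ht)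
        (hinvπ (t := ⟨t, setStab_le S _ ht⟩) ht2)
      exact ⟨z.1, ⟨z, hz, rfl⟩, congrArg Subtype.val htz⟩
    · intro t ht ht2 a₀ b₀ ha₀ hb₀
      exact hS.fix_unique (setStab_le S _ ht) ht2 (hsub ha₀) (hsub hb₀)
    · exact ⟨x, ⟨_, hx', rfl⟩, y, ⟨_, hy', rfl⟩, hxy⟩
    · obtain ⟨u, hu, hu2⟩ := hSE'.exists_inv
      obtain ⟨t, ht, rfl⟩ := hlift u hu2
      exact ⟨t, hst.mp hu, ht⟩
  · obtain ⟨u₁, hu₁, u₂, hu₂, h12, h22, hne', hc⟩ := h2'
    obtain ⟨t₁, ht₁, rfl⟩ := hlift u₁ h12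
    obtain ⟨t₂, ht₂, rfl⟩ := hlift u₂ h22
    have hprod : orderOf (π (t₂ * t₁)) = 2 := by
      rw [map_mul]
      refine orderOf_eq_two_of_mul_self ?_ fun h => hne' ?_
      · calc π t₂ * π t₁ * (π t₂ * π t₁) = π t₂ * (π t₁ * π t₂) * π t₁ := by group
          _ = 1 := by
            rw [hc.eq, ← mul_assoc, mul_self_of_orderOf_eq_two h22, one_mul,
              mul_self_of_orderOf_eq_two h12]
      · rw [eq_inv_of_mul_eq_one_right h, inv_eq_of_orderOf_eq_two h22]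
    have heven : Even (orderOf ((t₂ : G) * t₁)) := by
      rw [even_iff_two_dvd, ← hprod, show ((t₂ : G) * t₁) = ((t₂ * t₁ : S) : G) from rfl,
        Subgroup.orderOf_coe]
      exact orderOf_map_dvd π _
    obtain ⟨i, hi2, hiz, hi1, -⟩ := exists_central_involution ht₁ ht₂ heven
    have hiT : i ∈ setStab S (Subtype.val '' C') :=
      zpowers_le.mpr (mul_mem (hst.mp hu₂) (hst.mp hu₁)) hiz
    refine ⟨i, hiT, t₁, hst.mp hu₁, hi2, ht₁, fun h => ?_, hi1⟩
    obtain ⟨n, hn⟩ := mem_zpowers_iff.mp (h ▸ hiz)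
    have he : π t₁ = π (t₂ * t₁) ^ n := by
      rw [← map_zpow]
      exact congrArg π (Subtype.ext (by rw [SubgroupClass.coe_zpow]; exact hn.symm))
    rcases Int.even_or_odd n with ⟨m, rfl⟩ | ⟨m, rfl⟩
    · rw [← two_mul, zpow_mul, zpow_two, mul_self_of_orderOf_eq_two hprod, one_zpow] at he
      rw [he, orderOf_one] at h12
      exact absurd h12 (by norm_num)
    · rw [zpow_add, zpow_mul, zpow_two, mul_self_of_orderOf_eq_two hprod, one_zpow, one_mul,
        zpow_one, map_mul] at he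
      rw [show π t₂ = 1 from mul_eq_right.mp he.symm, orderOf_one] at h22
      exact absurd h22 (by norm_num)
  · rintro _ ⟨z, hz, rfl⟩
    exact congrArg Subtype.val (hfix _ ⟨⟨a, hRS ha⟩, ha, rfl⟩ (by
      rintro _ ⟨s, hs, rfl⟩
      rw [← hcomm, ← hcomm, hone]
      exact hquad s hs) z hz)

end Cfsg.Agent.H30.Bender
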