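import Cfsg.Agent.H30.Bender.Top
import Cfsg.Agent.H30.Bender.ModKernel
import Cfsg.Agent.H30.Bender.Quot
import Cfsg.Agent.H25.SmallAbelianization.PGroup

/-!
CASE A of notes/bender2.md, `p` dividing the number of involution classes of the line: quadratic
elements of the pair Sylow subgroup lie in the member, so the centres of the two Puig subgroups are
comparable, and the line of the normaliser of the centre is closed.
-/

set_option autoImplicit false
set_option linter.style.haveILetI false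

namespace Cfsg.Agent.H30.Bender

open Subgroup MulAction
open Cfsg.Agent.H39
open Cfsg.Agent.H29.Bender (IsSyl)
open Cfsg.Agent.H26.Bender (nor lineOf)
open Cfsg.Agent.H73.Bender
open scoped commutatorElement

universe u v

variable {G : Type u} [Group G]

/-- An element of an abelian subgroup acts quadratically on the normaliser. -/
theorem quad_of_normalizes {A : Subgroup G} (hA : IsMulCommutative A) {a v : G} (ha : a ∈ A)
    (hv : v ∈ normalizer (A : Set G)) : ⁅a, ⁅a, v⁆⁆ = 1 := by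
  have hc : ⁅a, v⁆ ∈ A := by
    rw [commutatorElement_def, show a * v * a⁻¹ * v⁻¹ = a * (v * a⁻¹ * v⁻¹) by group]
    exact mul_mem ha ((Subgroup.mem_normalizer_iff.mp hv _).mp (inv_mem ha))
  exact commutatorElement_eq_one_iff_mul_comm.mpr
    (congrArg Subtype.val (hA.is_comm.comm ⟨a, ha⟩ ⟨_, hc⟩))

theorem mem_normalizer_of_centralizes {Z : Subgroup G} {t : G} (h : ∀ z ∈ Z, Commute t z) :
    t ∈ normalizer (Z : Set G) := by
  rw [Subgroup.mem_normalizer_iff]
  intro z
  constructor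
  · intro hz; rw [(h z hz).eq, mul_inv_cancel_right]; exact hz
  · intro hz
    have h' := (h _ hz).eq
    have e : t * z * t⁻¹ = z := by
      refine mul_left_cancel (a := t) (mul_right_cancel (b := t⁻¹) ?_)
      have h'' := congrArg (fun g => g * t⁻¹) h'
      simpa [mul_assoc] using h''
    rwa [e] at hz

variable [Finite G] {Ω : Type v} [MulAction G Ω] [Finite Ω]
variable {S : Subgroup G} {C : Set Ω} {p : ℕ} [Fact p.Prime] {U Q : Subgroup G} {w : G} {x y c : Ω}

namespace Top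

omit [Finite Ω] in
theorem inf_kernel_le (h : Top p S C U Q w x y c) :
    Q ⊓ kernel (nor S U) (lineOf S C U) ≤ U := by
  have hUK : U ≤ kernel (nor S U) (lineOf S C U) := h.mu.1.le_kernel
  exact (h.mu.1.syl.eq_of_ge (le_inf h.le hUK) inf_le_right (h.syl.pgroup.to_le inf_le_left)).le

omit [Finite Ω] in
/-- A normalised subgroup of `U` containing its centraliser in `U` is not centralised by an
involution. -/
theorem exists_not_commute_of_self_centralising (h : Top p S C U Q w x y c) {X : Subgroup G}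
    (hXN : U ≤ normalizer (X : Set G)) (hXc : U ⊓ centralizer (X : Set G) ≤ X) {t : G}
    (ht : t ∈ nor S U) (ht2 : orderOf t = 2) : ∃ v ∈ X, ¬ Commute t v := by
  by_contra! hall
  obtain ⟨k, hk, hnc⟩ := h.mu.1.exists_not_commute h.se ht ht2
  set j := ⁅k, t⁆ with hj
  have hjU : j ∈ U := commutator_mem_of_normal hk ht.2
  have hjX : j ∈ X := hXc (mem_inf.mpr ⟨hjU, mem_centralizer_iff.mpr fun v hv => by
    have hv' : k⁻¹ * v * k ∈ X := by
      simpa using (Subgroup.mem_normalizer_iff.mp (hXN (inv_mem hk)) v).mp hv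
    have h1 := (hall v hv).eq
    have h2 := (hall _ hv').eq
    rw [hj, commutatorElement_def]
    calc v * (k * t * k⁻¹ * t⁻¹) = k * ((k⁻¹ * v * k) * t) * k⁻¹ * t⁻¹ := by group
      _ = k * (t * (k⁻¹ * v * k)) * k⁻¹ * t⁻¹ := by rw [h2]
      _ = k * t * k⁻¹ * t⁻¹ * (t * v * t⁻¹) := by group
      _ = k * t * k⁻¹ * t⁻¹ * v := by rw [h1, mul_inv_cancel_right]⟩)
  have hinv := conj_commutator_inv ht2 k
  rw [← hj, (hall j hjX).eq, mul_inv_cancel_right] at hinv
  have hodd : Odd (orderOf j) := by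
    rw [← Subgroup.orderOf_mk j hjU]
    exact (h.mu.1.odd h.se).of_dvd_nat (orderOf_dvd_natCard _)
  have hj1 : j = 1 := orderOf_eq_one_iff.mp (Nat.eq_one_of_dvd_coprimes hodd.coprime_two_left
    (orderOf_dvd_of_pow_eq_one (by rw [pow_two]; exact mul_eq_one_iff_eq_inv.mpr hinv)) dvd_rfl)
  exact hnc (commutatorElement_eq_one_iff_mul_comm.mp hj1).symm

/-- STAB: quadratic elements of `Q` on a normalised subgroup of `U` not centralised by involutions
lie in `U`. -/
theorem stab (h : Top p S C U Q w x y c) (hp : p ≠ 2) (hCent : Targets.Cent.{u, v})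
    (hdvd : p ∣ invBar (nor S U) (lineOf S C U) c) {Y : Subgroup G} (hYU : Y ≤ U)
    (hYN : nor S U ≤ normalizer (Y : Set G))
    (hinv : ∀ t ∈ nor S U, orderOf t = 2 → ∃ v ∈ Y, ¬ Commute t v) {a : G} (ha : a ∈ Q)
    (hquad : ∀ v ∈ Y, ⁅a, ⁅a, v⁆⁆ ∈ ⁅Y, Y⁆) : a ∈ U := by
  by_contra haU
  set N := nor S U with hN
  set L := lineOf S C U with hL
  have hYK : Y ≤ kernel N L := hYU.trans h.mu.1.le_kernel
  have hMY : ⁅Y, Y⁆ ≤ Y := Subgroup.commutator_le.mpr fun g hg g' hg' =>
    mul_mem (mul_mem (mul_mem hg hg') (inv_mem hg)) (inv_mem hg')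
  have hMN : N ≤ normalizer ((⁅Y, Y⁆ : Subgroup G) : Set G) := fun g hg =>
    Coprime.mem_normalizer_of_map_conj (by
      rw [Subgroup.map_commutator, Coprime.map_conj_eq (hYN hg)])
  have hYp : IsPGroup p Y := h.mu.1.isPGroup.to_le hYU
  have hinvM : ∀ t ∈ N, orderOf t = 2 → ∃ v ∈ Y, ⁅t, v⁆ ∉ ⁅Y, Y⁆ := by
    intro t ht ht2
    by_contra! hall
    obtain ⟨v, hv, hnc⟩ := hinv t ht ht2
    have hYY : Y ≤ normalizer ((⁅Y, Y⁆ : Subgroup G) : Set G) :=
      (hYU.trans (le_inf h.mu.1.le Subgroup.le_normalizer)).trans hMN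
    have hsup : (Y ⊓ centralizer (zpowers t : Set G)) ⊔ ⁅Y, Y⁆ = Y := by
      refine le_antisymm (sup_le inf_le_left hMY) fun k hk => ?_
      refine (Coprime.centralizer_sup_eq (A := zpowers t) (K := Y) (zpowers_le.mpr (hYN ht)) ?_
        (Or.inl (Coprime.isSolvable_zpowers t)) hMY hYY (zpowers_le.mpr (hMN ht)) hk).mp
        fun g hg => ?_
      · rw [Nat.card_zpowers, ht2]
        exact (H29.Bender.odd_card_of_isPGroup hYp
          ((Fact.out : p.Prime).odd_of_ne_two hp)).coprime_two_left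
      · rcases eq_one_or_eq_of_mem_zpowers ht2 hg with rfl | rfl
        · simp
        · simpa [commutatorElement_def] using hall k hk
    have heq := H25.SmallAbelianization.eq_of_sup_derived hYp inf_le_left hsup
    exact hnc (mem_centralizer_iff.mp (heq.ge hv).2 t (mem_zpowers t))
  obtain ⟨C', hC'L, -, hx', hy', hSE, hR2, hQC, hwC, haC⟩ := quadratic_pair_mod hCent h.line h.two
    h.main.1 hp h.x_mem h.y_mem h.ne
    (by rw [← invBar_eq h.line h.c_mem h.x_mem]; exact hdvd) (hMY.trans hYK) hMN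
    (hYK.trans inf_le_left) hYN le_rfl hYp hinvM h.syl.le h.syl.pgroup h.w_mem h.w_norm ha hquad
    (fun haK => haU (h.inf_kernel_le ⟨ha, haK⟩))
  set T' := setStab N C' with hT'
  have hT'S : T' ≤ S := (setStab_le N C').trans inf_le_left
  have hC'C : C' ⊆ C := fun z hz => (hC'L hz).1
  have hpts : points T' C = C' := by
    refine Set.Subset.antisymm ?_ fun z hz => ?_
    · rintro z ⟨hzC, t, ht, ht2, htz⟩
      obtain ⟨z', hz', htz'⟩ := hSE.exists_fix ht ht2
      rwa [h.se.fix_unique (hT'S ht) ht2 hzC (hC'C hz') htz htz']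
    · obtain ⟨t, ht, ht2, htz⟩ := hSE.exists_inv_at hz
      exact ⟨hC'C hz, t, ht, ht2, htz⟩
  have hUK : U ≤ Q ⊓ kernel T' (points T' C) := by
    rw [hpts]
    exact le_inf h.le fun g hg =>
      mem_kernel.mpr ⟨hQC (h.le hg), fun z hz => h.mu.1.fix hg (hC'L hz)⟩
  obtain ⟨-, h2⟩ := h.lex hp hT'S hR2 h.syl.pgroup hQC hwC h.w_norm (hpts.symm ▸ hx' : x ∈ _)
    (hpts.symm ▸ hy' : y ∈ _) (fun g hg => (mem_pair.mp (h.syl.le hg)).2.1)
    (fun g hg => (mem_pair.mp (h.syl.le hg)).2.2)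
    (Subgroup.card_le_of_le (inverted_mono hUK w))
  have heq := Subgroup.eq_of_le_of_card_ge hUK (h2 rfl)
  refine haU (heq.ge ⟨ha, ?_⟩)
  rw [hpts]
  exact mem_kernel.mpr ⟨hQC ha, haC⟩

/-- The centre of the Puig subgroup of `Q` lies in `U` and is normalised by the involutions of the
normaliser of `U`. -/
theorem puigZ_facts (h : Top p S C U Q w x y c) (hp : p ≠ 2) (hCent : Targets.Cent.{u, v})
    (hdvd : p ∣ invBar (nor S U) (lineOf S C U) c) :
    puigZ Q ≤ U ∧ ∀ t ∈ nor S U, orderOf t = 2 → t ∈ normalizer (puigZ Q : Set G) := by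
  set N := nor S U with hN
  have hQp := h.syl.pgroup
  have hUp := h.mu.1.isPGroup
  have hNU : N ≤ normalizer (U : Set G) := inf_le_right
  have hcomp := H42.compare_lower_upper (S := Q) (T := U) (H42.seqIn_compare h.le
    fun n A hA hc hn hle a ha => h.stab hp hCent hdvd (H42.seqIn_le U _)
      (hNU.trans (H42.normalizer_le_seqIn U _))
      (fun t ht ht2 => h.exists_not_commute_of_self_centralising
        (Subgroup.le_normalizer.trans (H42.normalizer_le_seqIn U _))
        (H42.inf_centralizer_seqIn_succ_le hUp _) ht ht2)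
      (hA ha) fun v hv => by rw [quad_of_normalizes hc ha (hn (hle hv))]; exact one_mem _)
  obtain ⟨hlow, hup⟩ := hcomp
  set V := H42.upperIn U with hV
  set ZV := puigZ U with hZV
  have hinvV : ∀ t ∈ N, orderOf t = 2 → ∃ v ∈ V, ¬ Commute t v := fun t ht ht2 =>
    h.exists_not_commute_of_self_centralising
      (Subgroup.le_normalizer.trans (H42.normalizer_le_upperIn U))
      (H42.inf_centralizer_upperIn_le hUp) ht ht2
  set CV := N ⊓ centralizer (V : Set G) with hCV
  have hCVodd : Odd (Nat.card CV) := by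
    rw [← Nat.not_even_iff_odd, even_iff_two_dvd]
    intro hdiv
    obtain ⟨t, ht⟩ := exists_prime_orderOf_dvd_card' 2 hdiv
    rw [← Subgroup.orderOf_coe] at ht
    obtain ⟨v, hv, hnc⟩ := hinvV t.1 (mem_inf.mp t.2).1 ht
    exact hnc (mem_centralizer_iff.mp (mem_inf.mp t.2).2 v hv).symm
  have hCVN : N ≤ normalizer (CV : Set G) := by
    intro g hg
    refine Coprime.mem_normalizer_of_map_conj (Subgroup.eq_of_le_of_card_ge ?_
      (Coprime.card_map_conj _ _).ge)
    rintro _ ⟨d, hd, rfl⟩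
    refine mem_inf.mpr ⟨conj_mem_of_mem hg (mem_inf.mp hd).1, mem_centralizer_iff.mpr fun v hv => ?_⟩
    have hv' : g⁻¹ * v * g ∈ V := by
      simpa using (Subgroup.mem_normalizer_iff.mp
        (H42.normalizer_le_upperIn U (inv_mem (hNU hg))) v).mp hv
    have h2 := mem_centralizer_iff.mp (mem_inf.mp hd).2 _ hv'
    change v * (g * d * g⁻¹) = g * d * g⁻¹ * v
    calc v * (g * d * g⁻¹) = g * ((g⁻¹ * v * g) * d) * g⁻¹ := by group
      _ = g * (d * (g⁻¹ * v * g)) * g⁻¹ := by rw [h2]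
      _ = g * d * g⁻¹ * v := by group
  have hCVK : CV ≤ kernel N (lineOf S C U) :=
    h.line.le_kernel_of_odd h.two inf_le_left hCVodd hCVN
  have hZZV : puigZ Q ≤ ZV := by
    intro z hz
    have hzQ : z ∈ Q := puigZ_le Q hz
    have hzc : z ∈ centralizer (V : Set G) := centralizer_le hup (mem_inf.mp hz).2
    have hzN : z ∈ N := (mem_pair.mp (h.syl.le hzQ)).1
    have hzU : z ∈ U := h.inf_kernel_le ⟨hzQ, hCVK (mem_inf.mpr ⟨hzN, hzc⟩)⟩
    exact mem_inf.mpr ⟨H42.inf_centralizer_upperIn_le hUp (mem_inf.mpr ⟨hzU, hzc⟩), hzc⟩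
  refine ⟨hZZV.trans (puigZ_le U), ?_⟩
  by_cases hcent : ∃ t ∈ N, orderOf t = 2 ∧ ∀ v ∈ ZV, Commute t v
  · obtain ⟨t₀, ht₀, ht₀2, hc₀⟩ := hcent
    intro t ht ht2
    obtain ⟨g, hg, rfl⟩ := h.line.exists_conj ht₀ ht ht₀2 ht2
    refine mem_normalizer_of_centralizes fun z hz => ?_
    have hgZ : g ∈ normalizer (ZV : Set G) := normalizer_le_puigZ U (hNU hg)
    have hz' : g⁻¹ * z * g ∈ ZV := by
      simpa using (Subgroup.mem_normalizer_iff.mp (inv_mem hgZ) z).mp (hZZV hz)
    have h2 := (hc₀ _ hz').eq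
    show g * t₀ * g⁻¹ * z = z * (g * t₀ * g⁻¹)
    calc g * t₀ * g⁻¹ * z = g * (t₀ * (g⁻¹ * z * g)) * g⁻¹ := by group
      _ = g * ((g⁻¹ * z * g) * t₀) * g⁻¹ := by rw [h2]
      _ = z * (g * t₀ * g⁻¹) := by group
  · push Not at hcent
    have hZVlow : ZV ≤ H42.lowerIn Q := fun z hz =>
      H42.inf_centralizer_lowerIn_le hQp (mem_inf.mpr ⟨h.le (puigZ_le U hz),
        centralizer_le (hlow.trans (H42.lowerIn_le_upperIn U)) (mem_inf.mp hz).2⟩)
    have hLQ : H42.upperIn Q ≤ U := by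
      rw [← H42.stepIn_lowerIn]
      refine H42.stepIn_le fun A hA hc hn a ha => h.stab hp hCent hdvd (puigZ_le U)
        (hNU.trans (normalizer_le_puigZ U)) hcent (hA ha) fun v hv => ?_
      rw [quad_of_normalizes hc ha (hn (hZVlow hv))]
      exact one_mem _
    have heq : puigZ Q = ZV := by rw [hZV, puigZ, puigZ, H42.upperIn_eq_of_le hLQ h.le]
    intro t ht _
    rw [heq]
    exact normalizer_le_puigZ U (hNU ht)

/-- CASE A, `p` dividing `invBar`. -/
theorem closedLine_of_dvd (h : Top p S C U Q w x y c) (hp : p ≠ 2) (hCent : Targets.Cent.{u, v})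
    (hdvd : p ∣ invBar (nor S U) (lineOf S C U) c) :
    ∃ C' : Set Ω, Closed S C C' ∧ C' ≠ C ∧ Noncentral (setStab S C') C' := by
  obtain ⟨hZU, hZinv⟩ := h.puigZ_facts hp hCent hdvd
  have hwS : w ∈ S := h.w_mem.1
  set Z := puigZ Q with hZ
  set T := nor S Z with hT
  set L := lineOf S C Z with hL
  have hsub : lineOf S C U ⊆ L := by
    rintro z ⟨hz, t, ht, ht2, htz⟩
    exact ⟨hz, t, ⟨ht.1, hZinv t ht ht2⟩, ht2, htz⟩
  have hwT : w ∈ T := ⟨hwS, hZinv w h.w_mem h.w_inv⟩
  have hxL := hsub h.x_mem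
  have hyL := hsub h.y_mem
  have hcL := hsub h.c_mem
  have hline : SE T L := h.se.line inf_le_left hxL hyL h.ne
  have hT2 : RankTwo T := by
    obtain ⟨s, hs, t, ht, hs2, ht2, hrest⟩ := h.two
    exact ⟨s, ⟨hs.1, hZinv s hs hs2⟩, t, ⟨ht.1, hZinv t ht ht2⟩, hs2, ht2, hrest⟩
  have hU1 : U ≠ ⊥ := fun e => h.inverted_ne_bot (inverted_eq_bot_iff.mpr fun k hk => by
    rw [e, mem_bot] at hk; rw [hk]; exact Commute.one_right _)
  have hZ1 : Z ≠ ⊥ := puigZ_ne_bot h.syl.pgroup fun e => hU1 (le_bot_iff.mp (e ▸ h.le))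
  have hZS : Z ≤ S := hZU.trans h.mu.1.le
  have hZodd : Odd (Nat.card Z) := (h.mu.1.odd h.se).of_dvd_nat (card_dvd_of_le hZU)
  have hTne : T ≠ S := fun e => hZ1 (by
    have hle := h.se.le_kernel_of_odd h.rank hZS hZodd (e.ge.trans inf_le_right)
    rw [show kernel S C = ⊥ from h.faithful] at hle
    exact le_bot_iff.mp hle)
  obtain ⟨hgood, htwo⟩ := h.below G Ω T L
    (Or.inl (lt_of_le_of_ne (Subgroup.card_le_of_le inf_le_left)
      fun e => hTne (Subgroup.eq_of_le_of_card_ge inf_le_left e.ge))) hline hT2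
  have hQS : Q ≤ S := fun g hg => ((mem_pair.mp (h.syl.le hg)).1).1
  have hUT : U ≤ T := fun g hg =>
    ⟨h.mu.1.le hg, normalizer_le_puigZ Q (Subgroup.le_normalizer (h.le hg))⟩
  have hB : inverted U w ≤ kernel T L := inverted_le_kernel hgood hUT hwT h.w_inv h.w_mem.2 hcL hxL
    h.c_ne_x h.w_fix (fun g hg => h.mu.1.fix hg h.c_mem) (fun g hg => h.mu.1.fix hg h.x_mem)
  -- `Q` is a Sylow subgroup of the pair stabiliser
  set D := pair S x y with hD
  have hodd : Odd (Nat.card D) := h.se.odd_pair h.x_mem.1 h.y_mem.1 h.ne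
  have hwD : w ∈ normalizer (D : Set G) := H26.Bender.mem_normalizer_pair hwS h.w_inv h.w_swap
  have hQD : IsSyl p D Q := by
    obtain ⟨R₀, hQR, hwR⟩ := Coprime.exists_invariant_sylow_ge (A := zpowers w) (K := D)
      (zpowers_le.mpr hwD) (by rw [Nat.card_zpowers, h.w_inv]; exact hodd.coprime_two_left)
      (Or.inl (Coprime.isSolvable_zpowers w)) p (h.syl.le.trans h.pair_le) h.syl.pgroup
      (zpowers_le.mpr h.w_norm)
    set R := (R₀ : Subgroup D).map D.subtype with hR
    have hRs : IsSyl p D R := H29.Bender.sylow_map R₀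
    rcases eq_or_lt_of_le hQR with heq | hlt
    · rw [heq]; exact hRs
    exfalso
    obtain ⟨z, hzR, hzQ, hzN⟩ := exists_mem_normalizer_not_mem hRs.pgroup hlt
    set Q₁ := R ⊓ normalizer (Q : Set G) with hQ₁
    have hQQ₁ : Q < Q₁ :=
      lt_of_le_of_ne (le_inf hQR Subgroup.le_normalizer) fun e => hzQ (e.symm ▸ ⟨hzR, hzN⟩)
    have hwQ₁ : w ∈ normalizer (Q₁ : Set G) := by
      rw [Subgroup.mem_normalizer_iff]
      intro g
      rw [mem_inf, mem_inf]
      exact and_congr (Subgroup.mem_normalizer_iff.mp (hwR (mem_zpowers w)) g)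
        (Subgroup.mem_normalizer_iff.mp (Subgroup.le_normalizer h.w_norm) g)
    have hUB : inverted U w ≤ Q₁ ⊓ kernel T L :=
      le_inf ((inverted_le h.w_mem.2).trans (h.le.trans hQQ₁.le)) hB
    have hidem : inverted (inverted U w) w = inverted U w :=
      Coprime.commutator_commutator_eq (zpowers_le.mpr h.w_mem.2)
        (by rw [Nat.card_zpowers, h.w_inv]; exact (h.mu.1.odd h.se).coprime_two_left)
        (Or.inl (Coprime.isSolvable_zpowers w))
    obtain ⟨hle, -⟩ := h.lex hp (T := T) (P := Q₁) inf_le_left hT2 (hRs.pgroup.to_le inf_le_left)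
      (fun g hg => ⟨(mem_pair.mp (hRs.le hg.1)).1, normalizer_le_puigZ Q hg.2⟩) hwT hwQ₁ hxL hyL
      (fun g hg => (mem_pair.mp (hRs.le hg.1)).2.1) (fun g hg => (mem_pair.mp (hRs.le hg.1)).2.2)
      (hidem.symm.le.trans (inverted_mono hUB w) |> Subgroup.card_le_of_le)
    exact hQQ₁.ne (Subgroup.eq_of_le_of_card_ge hQQ₁.le hle)
  -- the points of the swappers of the pair
  have hswap : ∀ i ∈ S, orderOf i = 2 → i • x = y → ∀ z ∈ C, i • z = z → z ∈ L := by
    intro i hi hi2 hix z hz hiz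
    obtain ⟨d, hd, rfl⟩ :=
      h.se.swap_conj h.x_mem.1 h.y_mem.1 h.ne hwS hi h.w_inv hi2 h.w_swap hix
    obtain ⟨k, hk, n, hn, rfl⟩ := le_core_sup_puig hp hodd hQD d hd
    have hnD : n ∈ D := (mem_inf.mp hn).1
    have hk' : n⁻¹ * k * n ∈ Signalizer.core p D := by
      simpa using (Subgroup.mem_normalizer_iff.mp
        (inv_mem (Signalizer.le_normalizer_core D hnD)) k).mp hk
    have hdc : (k * n) • c = n • c := by
      rw [show k * n = n * (n⁻¹ * k * n) by group, mul_smul, h.core_fix hp _ hk']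
    have hzeq : z = (k * n) • c := h.se.fix_unique hi hi2 hz
      (h.se.smul_mem (mem_pair.mp hd).1 h.c_mem.1) hiz (conj_smul_of_smul h.w_fix)
    rw [hzeq, hdc]
    exact hline.smul_mem ⟨(mem_pair.mp hnD).1, (mem_inf.mp hn).2⟩ hcL
  have hcl : ∀ x' ∈ L, ∀ y' ∈ L, x' ≠ y' → ∀ i ∈ S, orderOf i = 2 → i • x' = y' →
      ∀ z ∈ C, i • z = z → z ∈ L := by
    intro x' hx' y' hy' hne i hi hi2 hix z hz hiz
    obtain ⟨g, hg, hgx⟩ := hline.trans hxL hx'
    have hne' : g • y ≠ x' := fun e => h.ne (MulAction.injective g (hgx.trans e.symm))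
    obtain ⟨g', hg', hg'x, hg'y⟩ :=
      htwo x' hx' (g • y) (hline.smul_mem hg hyL) y' hy' hne' hne.symm
    set d := g' * g with hd
    have hdT : d ∈ T := T.mul_mem hg' hg
    have hdS : d ∈ S := hdT.1
    have hdx : d • x = x' := by rw [hd, mul_smul, hgx, hg'x]
    have hdy : d • y = y' := by rw [hd, mul_smul, hg'y]
    have hz' := hswap (d⁻¹ * i * d) (mul_mem (mul_mem (inv_mem hdS) hi) hdS)
      (by have := orderOf_conj d⁻¹ i; rw [inv_inv] at this; rw [this, hi2])
      (by rw [mul_smul, mul_smul, hdx, hix, inv_smul_eq_iff, hdy])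
      (d⁻¹ • z) (h.se.smul_mem (inv_mem hdS) hz)
      (by rw [mul_smul, mul_smul, smul_inv_smul, hiz])
    have := hline.smul_mem hdT hz'
    rwa [smul_inv_smul] at this
  have hTL : T ≤ setStab S L := fun g hg => mem_setStab hg.1 fun z hz => hline.smul_mem hg hz
  have hZker : Z ≤ kernel T L := fun g hg => mem_kernel.mpr
    ⟨⟨hZS hg, Subgroup.le_normalizer hg⟩, H26.Bender.fix_all_of_normal hline inf_le_right hcL
      (fun g hg => h.mu.1.fix (hZU hg) h.c_mem) g hg⟩
  refine ⟨L, ⟨fun z hz => hz.1, ⟨x, hxL, y, hyL, h.ne⟩, fun i hi hi2 hc => ?_⟩, fun e => hZ1 ?_,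
    noncentral_of_inverted_le (h.mu.1.odd h.se) hwT h.w_inv h.w_mem.2 h.inverted_ne_bot hTL hB⟩
  · obtain ⟨z, hz, hiz⟩ := hc
    exact mem_setStab hi fun z' hz' =>
      h.se.smul_mem_of_swap_points (fun z hz => hz.1) hcl hi hi2 hz hiz hz'
  · have hle : Z ≤ kernel S C := fun g hg => mem_kernel.mpr ⟨hZS hg,
      e ▸ (mem_kernel.mp (hZker hg)).2⟩
    rw [show kernel S C = ⊥ from h.faithful] at hle
    exact le_bot_iff.mp hle

end Top

end Cfsg.Agent.H30.Bender
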