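import Cfsg.Agent.H30.Bender.One
import Cfsg.Agent.H30.Bender.Two

/-!
Section 6 of notes/bender2.md: a mu-maximal member of rank two gives a closed subline with
non-central kernel.
-/

set_option autoImplicit false

namespace Cfsg.Agent.H30.Bender

open Subgroup
open Cfsg.Agent.H73.Bender

universe u v

/-- CASE A. -/
theorem caseA {G : Type u} [Group G] [Finite G] {Ω : Type v} [MulAction G Ω] [Finite Ω]
    {S : Subgroup G} {C : Set Ω} {p : ℕ} [Fact p.Prime] (hp : p ≠ 2)
    (hCent : Targets.Cent.{u, v}) (hbelow : MainBelow.{u, v} (Nat.card S) (Nat.card C))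
    (hS : SE S C) (h2 : RankTwo S) (hF : Faithful S C) {U : Subgroup G} (hU : MuMax p S C U)
    (hU2 : RankTwo (S ⊓ normalizer (U : Set G)))
    (hB1 : ∀ V : Subgroup G, MuMax p S C V → ¬ RankTwo (S ⊓ normalizer (V : Set G)) →
      ∀ c ∈ points (S ⊓ normalizer (V : Set G)) C,
        ¬ p ∣ invBar (S ⊓ normalizer (V : Set G)) (points (S ⊓ normalizer (V : Set G)) C) c) :
    ∃ C' : Set Ω, Closed S C C' ∧ C' ≠ C ∧ Noncentral (setStab S C') C' := by
  obtain ⟨U, Q, w, x, y, c, h⟩ := exists_top hbelow hS h2 hF hU hU2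
  by_cases hdvd : p ∣ invBar (H26.Bender.nor S U) (H26.Bender.lineOf S C U) c
  · exact h.closedLine_of_dvd hp hCent hdvd
  · exact h.closedLine_of_not_dvd hp hB1 hdvd

end Cfsg.Agent.H30.Bender
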