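import Cfsg.Agent.Coprime.Action
import Cfsg.Agent.H39.Dihedral
import Cfsg.Agent.S0205
import Mathlib.GroupTheory.GroupAction.Defs

/-!
The chief-factor argument of notes/bender2.md, section 6: an odd group of order prime to that of an
element `e` inverted by an involution `w` is generated by the fixed points of `w` and of `e`, in the
form that a subgroup containing `e`, `w` and both fixed point groups contains the group.
-/

set_option autoImplicit false
set_option linter.style.haveILetI false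

namespace Cfsg.Agent.H30.Bender

open Subgroup
open Cfsg.Agent.H39
open scoped commutatorElement

variable {G : Type*} [Group G] [Finite G]

/-- Fixed points modulo `K ⊓ M` lift. -/
theorem mem_of_coset_fix {M K : Subgroup G} {g : G} (hgK : g ∈ normalizer (K : Set G))
    (hcop : (orderOf g).Coprime (Nat.card K)) (hgM : g ∈ M)
    (hC : ∀ k ∈ K, Commute k g → k ∈ M) {k : G} (hk : k ∈ K)
    (hfix : k⁻¹ * (g * k * g⁻¹) ∈ K ⊓ M) : k ∈ M := by
  have hgN : g ∈ normalizer ((K ⊓ M : Subgroup G) : Set G) := by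
    rw [Subgroup.mem_normalizer_iff]
    intro x
    rw [mem_inf, mem_inf]
    exact and_congr (Subgroup.mem_normalizer_iff.mp hgK x)
      (Subgroup.mem_normalizer_iff.mp (Subgroup.le_normalizer hgM) x)
  set N := K ⊓ M with hN
  let S : Subgroup G :=
    { carrier := {b | b ∈ normalizer (N : Set G) ∧ k⁻¹ * (b * k * b⁻¹) ∈ N}
      one_mem' := ⟨one_mem _, by simp⟩
      mul_mem' := fun {b c} hb hc => ⟨mul_mem hb.1 hc.1, by
        have := mul_mem hb.2 ((Subgroup.mem_normalizer_iff.mp hb.1 _).mp hc.2)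
        simpa [mul_assoc] using this⟩
      inv_mem' := fun {b} hb => ⟨inv_mem hb.1, by
        have := (Subgroup.mem_normalizer_iff.mp (inv_mem hb.1) _).mp (inv_mem hb.2)
        simpa [mul_assoc] using this⟩ }
  have hle : zpowers g ≤ S := zpowers_le.mpr ⟨hgN, hfix⟩
  obtain ⟨c, hc, hkc⟩ := Coprime.exists_centralizer_mem_coset (A := zpowers g) (K := K) (N := N)
    (zpowers_le.mpr hgK) (by rwa [Nat.card_zpowers]) (Or.inl (Coprime.isSolvable_zpowers g))
    inf_le_left (fun b hb => (hle hb).1) hk (fun b hb => (hle hb).2)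
  have hcM : c ∈ M := hC c hc.1 (mem_centralizer_iff.mp hc.2 g (mem_zpowers g)).symm
  have := mul_mem hcM (inv_mem hkc.2)
  simpa using this

theorem le_of_inverted_solvable {e w : G} (hw : orderOf w = 2) (heo : Odd (orderOf e))
    (hinv : w * e * w⁻¹ = e⁻¹) {M : Subgroup G} (hwM : w ∈ M) (heM : e ∈ M)
    (K : Subgroup G) [Group.IsSolvable K] (hodd : Odd (Nat.card K))
    (hcop : (orderOf e).Coprime (Nat.card K)) (heK : e ∈ normalizer (K : Set G))
    (hwK : w ∈ normalizer (K : Set G)) (hCw : ∀ k ∈ K, Commute k w → k ∈ M)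
    (hCe : ∀ k ∈ K, Commute k e → k ∈ M) : K ≤ M := by
  induction hn : Nat.card K using Nat.strong_induction_on generalizing K with
  | _ n ih =>
  subst hn
  by_cases hbot : K = ⊥
  · rw [hbot]; exact bot_le
  have hlt : ⁅K, K⁆ < K := by
    refine lt_of_le_of_ne (Subgroup.commutator_le.mpr fun k hk l hl =>
      mul_mem (mul_mem (mul_mem hk hl) (inv_mem hk)) (inv_mem hl)) fun h => ?_
    haveI : Nontrivial K := (Subgroup.nontrivial_iff_ne_bot K).mpr hbot
    refine (Group.IsSolvable.commutator_lt_top_of_nontrivial (G := K)).ne ?_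
    apply Subgroup.map_injective K.subtype_injective
    rw [← MonoidHom.range_eq_map, Subgroup.range_subtype, _root_.commutator_def, Subgroup.map_commutator,
      ← MonoidHom.range_eq_map, Subgroup.range_subtype, h]
  haveI : Group.IsSolvable ↥⁅K, K⁆ := Coprime.isSolvable_of_le hlt.le inferInstance
  have hnorm : ∀ g ∈ normalizer (K : Set G), g ∈ normalizer ((⁅K, K⁆ : Subgroup G) : Set G) :=
    fun g hg => Coprime.mem_normalizer_of_map_conj (by
      rw [Subgroup.map_commutator, Coprime.map_conj_eq hg])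
  have hdvd := Subgroup.card_dvd_of_le hlt.le
  have hsub : ⁅K, K⁆ ≤ M :=
    ih _ (Nat.lt_of_le_of_ne (Nat.le_of_dvd Nat.card_pos hdvd)
        fun h => hlt.ne (Subgroup.eq_of_le_of_card_ge hlt.le h.ge))
      ⁅K, K⁆ (hodd.of_dvd_nat hdvd) (hcop.coprime_dvd_right hdvd) (hnorm e heK) (hnorm w hwK)
      (fun k hk => hCw k (hlt.le hk)) (fun k hk => hCe k (hlt.le hk)) rfl
  set N := K ⊓ M with hN
  have hcomm : ∀ k ∈ K, ∀ l ∈ K, ⁅k, l⁆ ∈ N := fun k hk l hl =>
    have h := Subgroup.commutator_mem_commutator hk hl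
    ⟨hlt.le h, hsub h⟩
  have hKN : ∀ g ∈ K, ∀ n ∈ N, g * n * g⁻¹ ∈ N := fun g hg n hn => by
    have := mul_mem (hcomm g hg n hn.1) hn
    simpa [commutatorElement_def, mul_assoc] using this
  have hu2 := mul_self_of_orderOf_eq_two hw
  have hui : w⁻¹ = w := inv_eq_of_orderOf_eq_two hw
  have huk : ∀ k ∈ K, k * (w * k * w⁻¹) ∈ N := by
    intro k hk
    have hk' : w * k * w⁻¹ ∈ K := (Subgroup.mem_normalizer_iff.mp hwK k).mp hk
    refine ⟨mul_mem hk hk', mem_of_coset_fix hwK (by rw [hw]; exact hodd.coprime_two_left) hwM hCw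
      (mul_mem hk hk') ?_⟩
    rw [← hN]
    have := hcomm _ (inv_mem hk') _ (inv_mem hk)
    simpa [commutatorElement_def, hui, mul_assoc, hu2,
      show ∀ r, w * (w * r) = r from fun r => by rw [← mul_assoc, hu2, one_mul]] using this
  intro k hk
  have heN : e ∈ normalizer (N : Set G) := by
    rw [hN, Subgroup.mem_normalizer_iff]
    intro x
    rw [mem_inf, mem_inf]
    exact and_congr (Subgroup.mem_normalizer_iff.mp heK x)
      (Subgroup.mem_normalizer_iff.mp (Subgroup.le_normalizer heM) x)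
  have hl : e * k * e⁻¹ ∈ K := (Subgroup.mem_normalizer_iff.mp heK k).mp hk
  have h1 : (e * k * e⁻¹) * (e⁻¹ * (w * k * w⁻¹) * e) ∈ N := by
    have := huk _ hl
    rwa [show w * (e * k * e⁻¹) * w⁻¹ = (w * e * w⁻¹) * (w * k * w⁻¹) * (w * e * w⁻¹)⁻¹ by group, hinv,
      inv_inv] at this
  have h2 : (e⁻¹ * k * e) * (e⁻¹ * (w * k * w⁻¹) * e) ∈ N := by
    have := (Subgroup.mem_normalizer_iff.mp (inv_mem heN) _).mp (huk k hk)
    simpa [mul_assoc] using this
  have h3 : (e * e) * k * (e * e)⁻¹ * k⁻¹ ∈ N := by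
    have := (Subgroup.mem_normalizer_iff.mp heN _).mp (mul_mem h1 (inv_mem h2))
    simpa [mul_assoc] using this
  have h4 : k⁻¹ * ((e * e) * k * (e * e)⁻¹) ∈ N := by
    have := hKN _ (inv_mem hk) _ h3
    simpa [mul_assoc] using this
  refine mem_of_coset_fix (mul_mem heK heK) ?_ (mul_mem heM heM) (fun c hc hce => hCe c hc ?_) hk h4
  · exact hcop.coprime_dvd_left (orderOf_dvd_of_mem_zpowers (mul_mem (mem_zpowers e) (mem_zpowers e)))
  · obtain ⟨m, hm⟩ := heo
    have hx : (e * e) ^ (m + 1) = e := by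
      rw [← sq, ← pow_mul, show 2 * (m + 1) = orderOf e + 1 by omega, pow_succ, pow_orderOf_eq_one,
        one_mul]
    rw [← hx]
    exact hce.pow_right _

/-- An odd subgroup of order prime to `orderOf e` normalised by `e` and `w` lies in a subgroup
containing `e`, `w` and the fixed points in it of both. -/
theorem le_of_inverted {e w : G} (hw : orderOf w = 2) (heo : Odd (orderOf e))
    (hinv : w * e * w⁻¹ = e⁻¹) {M : Subgroup G} (hwM : w ∈ M) (heM : e ∈ M) {K : Subgroup G}
    (hodd : Odd (Nat.card K)) (hcop : (orderOf e).Coprime (Nat.card K))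
    (heK : e ∈ normalizer (K : Set G)) (hwK : w ∈ normalizer (K : Set G))
    (hCw : ∀ k ∈ K, Commute k w → k ∈ M) (hCe : ∀ k ∈ K, Commute k e → k ∈ M) : K ≤ M := by
  haveI : Group.IsSolvable K := Cfsg.Agent.S0205.result hodd
  exact le_of_inverted_solvable hw heo hinv hwM heM K hodd hcop heK hwK hCw hCe

end Cfsg.Agent.H30.Bender
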