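import Cfsg.Agent.H30.Bender.Common

/-!
CLIMB keeping a four-group and an invariant `p`-group in the normaliser.
-/

set_option autoImplicit false
set_option linter.style.haveILetI false

namespace Cfsg.Agent.H30.Bender

open Subgroup MulAction
open Cfsg.Agent.H39
open Cfsg.Agent.H29.Bender (IsSyl)
open Cfsg.Agent.H26.Bender (nor lineOf)
open Cfsg.Agent.H73.Bender

universe u v

variable {G : Type u} [Group G] [Finite G] {Ω : Type v} [MulAction G Ω]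
variable {S : Subgroup G} {C : Set Ω} {p : ℕ} [Fact p.Prime]

/-- One step of CLIMB from the line of an arbitrary subgroup. -/
theorem climb_step (hS : SE S C) (hp : Odd p) {T Q : Subgroup G} (hTS : T ≤ S) (hT2 : RankTwo T)
    (hQ : IsPGroup p Q) (hQT : Q ≤ T) {w : G} (hwT : w ∈ T) (hwQ : w ∈ normalizer (Q : Set G))
    (hw2 : orderOf w = 2) {a b : Ω} (ha : a ∈ points T C) (hb : b ∈ points T C) (hab : a ≠ b) :
    ∃ U₁ Q₁ : Subgroup G, Q ⊓ kernel T (points T C) ≤ U₁ ∧ U₁ ≤ kernel T (points T C) ∧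
      IsSyl p (kernel T (points T C)) U₁ ∧ Q ≤ Q₁ ∧ U₁ ≤ Q₁ ∧ IsPGroup p Q₁ ∧ Q₁ ≤ T ∧
      Q₁ ≤ nor S U₁ ∧ w ∈ nor S U₁ ∧ w ∈ normalizer (Q₁ : Set G) ∧ RankTwo (nor S U₁) ∧
      points T C ⊆ lineOf S C U₁ ∧
      ∀ z ∈ points T C, (∀ g ∈ Q, g • z = z) → ∀ g ∈ Q₁, g • z = z := by
  have hT := hS.line hTS ha hb hab
  set K := kernel T (points T C) with hK
  have hKT : K ≤ T := inf_le_left
  have hTK : T ≤ normalizer (K : Set G) := le_normalizer_kernel hT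
  have hodd : Odd (Nat.card (K ⊔ Q : Subgroup G)) :=
    H26.Bender.odd_card_sup hp hT.odd_kernel hQ (hQT.trans hTK)
  have hwK : zpowers w ≤ normalizer ((K ⊔ Q : Subgroup G) : Set G) := zpowers_le.mpr
    (normalizer_inf_normalizer_le_normalizer_sup K Q ⟨hTK hwT, hwQ⟩)
  obtain ⟨P, hQP, hwP⟩ := Coprime.exists_invariant_sylow_ge (A := zpowers w) (K := K ⊔ Q) hwK
    (by rw [Nat.card_zpowers, hw2]; exact hodd.coprime_two_left)
    (Or.inl (Coprime.isSolvable_zpowers w)) p (le_sup_right : Q ≤ K ⊔ Q) hQ (zpowers_le.mpr hwQ)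
  set Q₁ : Subgroup G := (P : Subgroup (K ⊔ Q : Subgroup G)).map (K ⊔ Q).subtype with hQ₁
  have hQ₁le : Q₁ ≤ K ⊔ Q := map_subtype_le _
  have hQ₁T : Q₁ ≤ T := hQ₁le.trans (sup_le hKT hQT)
  have hQ₁s : IsSyl p (K ⊔ Q₁) Q₁ := by
    have h : K ⊔ Q₁ = K ⊔ Q :=
      le_antisymm (sup_le le_sup_left hQ₁le) (sup_le le_sup_left (hQP.trans le_sup_right))
    rw [h]; exact H29.Bender.sylow_map P
  have hU₁ : IsSyl p K (K ⊓ Q₁) := H26.Bender.isSyl_inf (hQ₁T.trans hTK) hQ₁s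
  have hsub : points T C ⊆ lineOf S C (K ⊓ Q₁) :=
    H26.Bender.points_le_normalizer_syl hS hTS ha hb hab hU₁
  have hnorm : ∀ {g : G}, g ∈ T → g ∈ normalizer (Q₁ : Set G) →
      g ∈ nor S (K ⊓ Q₁) := fun {g} hg hgQ => by
    refine ⟨hTS hg, Subgroup.mem_normalizer_iff.mpr fun z => ?_⟩
    rw [mem_inf, mem_inf]
    exact and_congr (Subgroup.mem_normalizer_iff.mp (hTK hg) z) (Subgroup.mem_normalizer_iff.mp hgQ z)
  refine ⟨K ⊓ Q₁, Q₁, le_inf inf_le_right (inf_le_left.trans hQP), inf_le_left, hU₁, hQP,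
    inf_le_right, P.2.map _, hQ₁T, fun g hg => hnorm (hQ₁T hg) (Subgroup.le_normalizer hg),
    hnorm hwT (hwP (mem_zpowers w)), hwP (mem_zpowers w), ?_, hsub, fun z hz hQz g hg => ?_⟩
  · obtain ⟨s, hs, t, ht, h⟩ := rankTwo_inf_normalizer hT2 hT.odd_kernel hKT hTK hU₁
    exact ⟨s, ⟨hTS hs.1, hs.2⟩, t, ⟨hTS ht.1, ht.2⟩, h⟩
  · have hle : K ⊔ Q ≤ stabilizer G z :=
      sup_le (fun k hk => (mem_kernel.mp hk).2 z hz) hQz
    exact hle (hQ₁le hg)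

theorem climbTwo_nor (hS : SE S C) (hp : Odd p) {U Q : Subgroup G} (hQ : IsPGroup p Q) (hUQ : U ≤ Q)
    (hQT : Q ≤ nor S U) (h2 : RankTwo (nor S U)) {w : G} (hwT : w ∈ nor S U)
    (hwQ : w ∈ normalizer (Q : Set G)) (hw2 : orderOf w = 2) {a b : Ω} (ha : a ∈ lineOf S C U)
    (hb : b ∈ lineOf S C U) (hab : a ≠ b) (hUa : ∀ g ∈ U, g • a = a) :
    ∃ U' Q' : Subgroup G, U ≤ U' ∧ Q ≤ Q' ∧ U' ≤ Q' ∧ IsPGroup p Q' ∧ Q' ≤ nor S U' ∧
      w ∈ nor S U' ∧ w ∈ normalizer (Q' : Set G) ∧ RankTwo (nor S U') ∧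
      lineOf S C U ⊆ lineOf S C U' ∧
      IsSyl p (kernel (nor S U') (lineOf S C U')) U' ∧
      ∀ z ∈ lineOf S C U, (∀ g ∈ Q, g • z = z) → ∀ g ∈ Q', g • z = z := by
  induction hn : Nat.card G - Nat.card U using Nat.strong_induction_on generalizing U Q with
  | _ n ih =>
  have hT : SE (nor S U) (lineOf S C U) := hS.line inf_le_left ha hb hab
  have hUK : U ≤ kernel (nor S U) (lineOf S C U) := fun g hg => mem_kernel.mpr ⟨hQT (hUQ hg),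
    H26.Bender.fix_all_of_normal hT inf_le_right ha hUa g hg⟩
  obtain ⟨U₁, Q₁, h1, h2', h3, h4, h5, h6, h7, h8, h9, h10, h11, h12, h13⟩ :=
    climb_step hS hp (T := nor S U) inf_le_left h2 hQ hQT hwT hwQ hw2 ha hb hab
  have hUU₁ : U ≤ U₁ := (le_inf hUQ hUK).trans h1
  rcases eq_or_lt_of_le hUU₁ with heq | hlt
  · refine ⟨U, Q₁, le_rfl, h4, hUQ.trans h4, h6, h7, hwT, h10, h2, subset_rfl, ?_, h13⟩
    rw [← heq] at h3; exact h3
  have hlt' : Nat.card U < Nat.card U₁ :=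
    lt_of_le_of_ne (Subgroup.card_le_of_le hUU₁)
      fun h => hlt.ne (Subgroup.eq_of_le_of_card_ge hUU₁ h.ge)
  subst hn
  obtain ⟨U', Q', g1, g2, g3, g4, g5, g6, g7, g8, g9, g10, g11⟩ := ih _
    (Nat.sub_lt_sub_left (hlt'.trans_le (Subgroup.card_le_card_group _)) hlt') h6 h5 h8 h11 h9 h10
    (h12 ha) (h12 hb) (fun g hg => (mem_kernel.mp (h2' hg)).2 a ha) rfl
  exact ⟨U', Q', hUU₁.trans g1, h4.trans g2, g3, g4, g5, g6, g7, g8, h12.trans g9, g10,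
    fun z hz hQz => g11 z (h12 hz) (h13 z hz hQz)⟩

/-- CLIMB from the line of a rank two subgroup, keeping an invariant `p`-group. -/
theorem climbTwo (hS : SE S C) (hp : Odd p) {T Q : Subgroup G} (hTS : T ≤ S) (hT2 : RankTwo T)
    (hQ : IsPGroup p Q) (hQT : Q ≤ T) {w : G} (hwT : w ∈ T) (hwQ : w ∈ normalizer (Q : Set G))
    (hw2 : orderOf w = 2) {a b : Ω} (ha : a ∈ points T C) (hb : b ∈ points T C) (hab : a ≠ b) :
    ∃ U' Q' : Subgroup G, Q ⊓ kernel T (points T C) ≤ U' ∧ Q ≤ Q' ∧ U' ≤ Q' ∧ IsPGroup p Q' ∧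
      Q' ≤ nor S U' ∧ w ∈ nor S U' ∧ w ∈ normalizer (Q' : Set G) ∧ RankTwo (nor S U') ∧
      points T C ⊆ lineOf S C U' ∧
      IsSyl p (kernel (nor S U') (lineOf S C U')) U' ∧
      ∀ z ∈ points T C, (∀ g ∈ Q, g • z = z) → ∀ g ∈ Q', g • z = z := by
  obtain ⟨U₁, Q₁, h1, h2', -, h4, h5, h6, -, h8, h9, h10, h11, h12, h13⟩ :=
    climb_step hS hp hTS hT2 hQ hQT hwT hwQ hw2 ha hb hab
  obtain ⟨U', Q', g1, g2, g3, g4, g5, g6, g7, g8, g9, g10, g11⟩ := climbTwo_nor hS hp h6 h5 h8 h11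
    h9 h10 hw2 (h12 ha) (h12 hb) hab (fun g hg => (mem_kernel.mp (h2' hg)).2 a ha)
  exact ⟨U', Q', h1.trans g1, h4.trans g2, g3, g4, g5, g6, g7, g8, h12.trans g9, g10,
    fun z hz hQz => g11 z (h12 hz) (h13 z hz hQz)⟩

end Cfsg.Agent.H30.Bender
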