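import Cfsg.Agent.H26.Bender.Climb
import Cfsg.Agent.H73.Bender.Climb
import Cfsg.Agent.Coprime.Generation
import Cfsg.Agent.Signalizer.Solvable
import Cfsg.Agent.S0205
import Cfsg.Agent.S1469

/-!
Small facts used in section 6 of notes/bender2.md: commutators with involutions, four-groups in
normalisers of Sylow subgroups of odd normal subgroups, cores of pair stabilisers, Puig centres.
-/

set_option autoImplicit false
set_option linter.style.haveILetI false

namespace Cfsg.Agent.H30.Bender

open Subgroup MulAction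
open Cfsg.Agent.H39
open Cfsg.Agent.H29.Bender (IsSyl)
open Cfsg.Agent.H26.Bender (nor lineOf)
open Cfsg.Agent.H73.Bender
open scoped commutatorElement

universe u v

variable {G : Type u} [Group G]

/-- `[U, u]`. -/
abbrev inverted (U : Subgroup G) (u : G) : Subgroup G := ⁅U, zpowers u⁆

theorem inverted_mono {U U' : Subgroup G} (h : U ≤ U') (u : G) : inverted U u ≤ inverted U' u :=
  Subgroup.commutator_mono h le_rfl

theorem inverted_eq_bot_iff {U : Subgroup G} {u : G} :
    inverted U u = ⊥ ↔ ∀ k ∈ U, Commute u k := by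
  rw [inverted, Subgroup.commutator_eq_bot_iff_le_centralizer, SetLike.le_def]
  refine forall₂_congr fun k _ => ?_
  rw [mem_centralizer_iff]
  refine ⟨fun h => h u (mem_zpowers u), fun h x hx => ?_⟩
  obtain ⟨n, rfl⟩ := mem_zpowers_iff.mp hx
  exact (h.zpow_left n).eq

theorem eq_one_or_eq_of_mem_zpowers {w : G} (hw : orderOf w = 2) {g : G} (hg : g ∈ zpowers w) :
    g = 1 ∨ g = w := by
  obtain ⟨n, rfl⟩ := mem_zpowers_iff.mp hg
  have h2 : w ^ (2 : ℤ) = 1 := by
    rw [zpow_two, mul_self_of_orderOf_eq_two hw]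
  rcases Int.even_or_odd n with ⟨m, rfl⟩ | ⟨m, rfl⟩
  · exact Or.inl (by simp only [← two_mul, zpow_mul, h2, one_zpow])
  · exact Or.inr (by simp only [zpow_add, zpow_mul, h2, one_zpow, one_mul, zpow_one])

theorem conj_commutator_inv {w : G} (hw : orderOf w = 2) (k : G) :
    w * ⁅k, w⁆ * w⁻¹ = ⁅k, w⁆⁻¹ := by
  have h2 := mul_self_of_orderOf_eq_two hw
  simp only [commutatorElement_def, inv_eq_of_orderOf_eq_two hw, mul_inv_rev, inv_inv, mul_assoc,
    h2, mul_one]

theorem commutator_mem_of_normal {U : Subgroup G} {k w : G} (hk : k ∈ U)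
    (hwU : w ∈ normalizer (U : Set G)) : ⁅k, w⁆ ∈ U := by
  rw [commutatorElement_def, mul_assoc k, mul_assoc k]
  exact mul_mem hk ((Subgroup.mem_normalizer_iff.mp hwU _).mp (inv_mem hk))

/-- `[U, w]` lies in every subgroup containing the inverted commutators. -/
theorem inverted_le_iff {U M : Subgroup G} {w : G} (hw : orderOf w = 2) :
    inverted U w ≤ M ↔ ∀ k ∈ U, ⁅k, w⁆ ∈ M := by
  refine ⟨fun h k hk => h (commutator_mem_commutator hk (mem_zpowers w)), fun h => ?_⟩
  refine Subgroup.commutator_le.mpr fun k hk g hg => ?_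
  rcases eq_one_or_eq_of_mem_zpowers hw hg with rfl | rfl
  · rw [commutatorElement_one_right]; exact one_mem M
  · exact h k hk

section Center

/-- The centre of the Puig subgroup. -/
def puigZ (Q : Subgroup G) : Subgroup G :=
  H42.upperIn Q ⊓ centralizer (H42.upperIn Q : Set G)

theorem puigZ_le (Q : Subgroup G) : puigZ Q ≤ Q := inf_le_left.trans (H42.upperIn_le Q)

theorem normalizer_le_puigZ (Q : Subgroup G) :
    normalizer (Q : Set G) ≤ normalizer (puigZ Q : Set G) :=
  (H42.normalizer_le_upperIn Q).trans (H42.normalizer_le_center _)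

variable [Finite G] {p : ℕ} [Fact p.Prime]

theorem upperIn_ne_bot {Q : Subgroup G} (hQ : IsPGroup p Q) (hne : Q ≠ ⊥) :
    H42.upperIn Q ≠ ⊥ := fun h => hne (le_bot_iff.mp (by
  have h' := H42.inf_centralizer_upperIn_le hQ
  rw [h] at h'
  exact le_trans (le_inf le_rfl fun x _ => mem_centralizer_iff.mpr fun y hy => by
    rw [SetLike.mem_coe, mem_bot] at hy
    rw [hy, one_mul, mul_one]) h'))

theorem puigZ_ne_bot {Q : Subgroup G} (hQ : IsPGroup p Q) (hne : Q ≠ ⊥) : puigZ Q ≠ ⊥ := by
  have hL := upperIn_ne_bot hQ hne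
  set L := H42.upperIn Q with hLdef
  have hLp : IsPGroup p L := hQ.to_le (H42.upperIn_le Q)
  haveI : Nontrivial L := (Subgroup.nontrivial_iff_ne_bot L).mpr hL
  haveI := hLp.center_nontrivial
  obtain ⟨⟨z, hz⟩, hz1⟩ := exists_ne (1 : center L)
  intro h
  have hm : (z : G) ∈ puigZ Q := mem_inf.mpr ⟨z.2, mem_centralizer_iff.mpr fun y hy =>
    congrArg Subtype.val (mem_center_iff.mp hz ⟨y, hy⟩)⟩
  rw [h, mem_bot] at hm
  exact hz1 (Subtype.ext (Subtype.ext hm))

/-- `D = O_{p'}(D) N_D(Z(L(Q)))` for an odd `D` with Sylow `p`-subgroup `Q`. -/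
theorem le_core_sup_puig {D Q : Subgroup G} (hp : p ≠ 2) (hodd : Odd (Nat.card D))
    (hQ : IsSyl p D Q) :
    ∀ d ∈ D, ∃ k ∈ Signalizer.core p D, ∃ n ∈ D ⊓ normalizer (puigZ Q : Set G), k * n = d := by
  haveI : Group.IsSolvable D := Cfsg.Agent.S0205.result hodd
  obtain ⟨R, hR⟩ := hQ.exists_sylow
  have htop := (Cfsg.Agent.S1469.result hodd p hp R).1
  rw [H42.center_upperIn] at htop
  have hL : (H42.upperIn (R : Subgroup D)).map D.subtype = H42.upperIn Q := by
    rw [H42.map_upperIn_of_injOn D.subtype fun a _ b _ h => D.subtype_injective h, hR]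
  have hZ : (H42.upperIn (R : Subgroup D) ⊓ centralizer
      (H42.upperIn (R : Subgroup D) : Set D)).map D.subtype = puigZ Q := by
    rw [puigZ, ← hL]
    ext x
    constructor
    · rintro ⟨z, ⟨hz, hzc⟩, rfl⟩
      refine ⟨⟨z, hz, rfl⟩, mem_centralizer_iff.mpr ?_⟩
      rintro _ ⟨y, hy, rfl⟩
      exact congrArg Subtype.val (mem_centralizer_iff.mp hzc y hy)
    · rintro ⟨⟨z, hz, rfl⟩, hc⟩
      refine ⟨z, mem_inf.mpr ⟨hz, mem_centralizer_iff.mpr fun y hy => D.subtype_injective ?_⟩, rfl⟩
      exact mem_centralizer_iff.mp hc _ ⟨y, hy, rfl⟩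
  intro d hd
  have hle : D ⊓ normalizer (puigZ Q : Set G) ≤ normalizer (Signalizer.core p D : Set G) :=
    inf_le_left.trans (Signalizer.le_normalizer_core D)
  refine (Coprime.mem_sup_iff hle).mp ?_
  have hd' : d ∈ (⊤ : Subgroup D).map D.subtype := ⟨⟨d, hd⟩, mem_top _, rfl⟩
  rw [← htop, Subgroup.map_sup] at hd'
  refine SetLike.le_def.mp (sup_le_sup_left ?_ _) hd'
  rintro _ ⟨n, hn, rfl⟩
  refine ⟨n.2, ?_⟩
  rw [← hZ]
  exact le_normalizer_map D.subtype ⟨n, hn, rfl⟩

end Center

section Core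

variable [Finite G] {p : ℕ} [Fact p.Prime]

/-- The cores of conjugate subgroups have the same order. -/
theorem card_core_le {D D' : Subgroup G} {g : G}
    (hg : D.map (MulAut.conj g).toMonoidHom = D') :
    Nat.card (Signalizer.core p D') ≤ Nat.card (Signalizer.core p D) := by
  have hb : D'.map (MulAut.conj g⁻¹).toMonoidHom = D := by
    rw [← hg, Coprime.map_conj_map_conj, inv_mul_cancel, Coprime.map_conj_one]
  have hle : (Signalizer.core p D').map (MulAut.conj g⁻¹).toMonoidHom ≤ Signalizer.core p D := by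
    refine Signalizer.le_core ((Subgroup.map_mono (Signalizer.core_le D')).trans hb.le) ?_ ?_
    · rw [← hb]
      exact (Subgroup.map_mono (Signalizer.le_normalizer_core D')).trans (le_normalizer_map _)
    · rw [Coprime.card_map_conj]
      exact Signalizer.not_dvd_card_core D'
  exact (Coprime.card_map_conj _ _).symm.le.trans (Subgroup.card_le_of_le hle)

/-- A `p'`-subgroup normalised by a Sylow subgroup lies in the core, `D` odd. -/
theorem le_core_of_syl {D R U : Subgroup G} (hodd : Odd (Nat.card D)) (hR : IsSyl p D R)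
    (hUD : U ≤ D) (hU : ¬ p ∣ Nat.card U) (hn : R ≤ normalizer (U : Set G)) :
    U ≤ Signalizer.core p D :=
  Signalizer.le_core_of_sylow (Cfsg.Agent.S0205.result hodd) ⟨hR.le, hR.pgroup, hR.card_eq⟩ hUD hU
    hn

end Core

section FourGroup

theorem mem_sup_zpowers {u v : G} (hu : orderOf u = 2) (hv : orderOf v = 2) (hc : Commute u v)
    {x : G} (hx : x ∈ zpowers u ⊔ zpowers v) : x = 1 ∨ x = u ∨ x = v ∨ x = u * v := by
  have hn : zpowers v ≤ normalizer (zpowers u : Set G) := by
    rw [zpowers_le]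
    refine Coprime.mem_normalizer_of_map_conj ?_
    rw [MonoidHom.map_zpowers]
    simp [← hc.eq]
  obtain ⟨a, ha, b, hb, rfl⟩ := (Coprime.mem_sup_iff hn).mp hx
  rcases eq_one_or_eq_of_mem_zpowers hu ha with rfl | rfl <;>
    rcases eq_one_or_eq_of_mem_zpowers hv hb with rfl | rfl <;> simp

theorem isPGroup_four {u v : G} (hu : orderOf u = 2) (hv : orderOf v = 2) (hc : Commute u v) :
    IsPGroup 2 (zpowers u ⊔ zpowers v : Subgroup G) := fun x => ⟨1, Subtype.ext (by
  rw [pow_one, SubmonoidClass.coe_pow, sq, OneMemClass.coe_one]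
  rcases mem_sup_zpowers hu hv hc x.2 with h | h | h | h <;>
    simp only [h, mul_one, mul_self_of_orderOf_eq_two hu, mul_self_of_orderOf_eq_two hv]
  calc u * v * (u * v) = u * (v * u) * v := by group
    _ = 1 := by
      rw [← hc.eq, ← mul_assoc, mul_self_of_orderOf_eq_two hu, one_mul,
        mul_self_of_orderOf_eq_two hv])⟩

variable [Finite G]

theorem not_isCyclic_four {u v : G} (hu : orderOf u = 2) (hv : orderOf v = 2) (hne : u ≠ v)
    (hc : Commute u v) : ¬ IsCyclic (zpowers u ⊔ zpowers v : Subgroup G) := by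
  set A : Subgroup G := zpowers u ⊔ zpowers v with hA
  intro hcyc
  obtain ⟨g, hg⟩ := hcyc.exists_generator
  have hsq : ∀ x : A, x * x = 1 := fun x => Subtype.ext (by
    rcases mem_sup_zpowers hu hv hc x.2 with h | h | h | h <;>
      simp only [Subgroup.coe_mul, OneMemClass.coe_one, h, mul_one, mul_self_of_orderOf_eq_two hu,
        mul_self_of_orderOf_eq_two hv]
    calc u * v * (u * v) = u * (v * u) * v := by group
      _ = 1 := by
        rw [← hc.eq, ← mul_assoc, mul_self_of_orderOf_eq_two hu, one_mul,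
          mul_self_of_orderOf_eq_two hv])
  have hcase : ∀ x : A, x = 1 ∨ x = g := fun x => by
    obtain ⟨k, rfl⟩ := hg x
    have hg2 : g ^ (2 : ℤ) = 1 := by rw [zpow_two]; exact hsq g
    rcases Int.even_or_odd k with ⟨m, rfl⟩ | ⟨m, rfl⟩
    · exact Or.inl (by simp only [← two_mul, zpow_mul, hg2, one_zpow])
    · exact Or.inr (by simp only [zpow_add, zpow_mul, hg2, one_zpow, one_mul, zpow_one])
  have h1 : ∀ x : G, orderOf x = 2 → ∀ hx : x ∈ A, (⟨x, hx⟩ : A) = g := fun x hx hxA =>
    (hcase _).resolve_left fun h => by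
      have h' : x = 1 := congrArg Subtype.val h
      rw [h', orderOf_one] at hx
      exact absurd hx (by norm_num)
  exact hne (congrArg Subtype.val ((h1 u hu (mem_sup_left (mem_zpowers u))).trans
    (h1 v hv (mem_sup_right (mem_zpowers v))).symm))

variable {p : ℕ} [Fact p.Prime]

/-- An involution not centralising an odd `p`-group and commuting with a second involution inverts
an element of order `p` centralised by a further involution of the four-group. -/
theorem exists_inverted_centralised {U : Subgroup G} (hU : IsPGroup p U) (hp : p ≠ 2) {w v : G}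
    (hw : orderOf w = 2) (hv : orderOf v = 2) (hne : w ≠ v) (hc : Commute w v)
    (hwU : w ∈ normalizer (U : Set G)) (hvU : v ∈ normalizer (U : Set G))
    (hnc : ∃ k ∈ U, ¬ Commute w k) :
    ∃ e ∈ U, orderOf e = p ∧ w * e * w⁻¹ = e⁻¹ ∧
      ∃ v' ∈ zpowers w ⊔ zpowers v, orderOf v' = 2 ∧ Commute v' w ∧ Commute v' e := by
  set A : Subgroup G := zpowers w ⊔ zpowers v with hA
  haveI : IsMulCommutative A := by
    have e : A = closure ({w, v} : Set G) := by
      rw [hA, zpowers_eq_closure, zpowers_eq_closure, ← Subgroup.closure_union, Set.singleton_union]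
    rw [e]
    exact Subgroup.isMulCommutative_closure (by
      rintro x (rfl | rfl) y (rfl | rfl) <;> first | rfl | exact hc.eq | exact hc.eq.symm)
  have hcop : (Nat.card A).Coprime (Nat.card U) := by
    obtain ⟨n, hn⟩ := IsPGroup.iff_card.mp (isPGroup_four hw hv hc)
    rw [hn]
    exact (H29.Bender.odd_card_of_isPGroup hU
      ((Fact.out : p.Prime).odd_of_ne_two hp)).coprime_two_left.pow_left n
  by_contra hno
  push Not at hno
  obtain ⟨k, hk, hwk⟩ := hnc
  refine hwk (mem_centralizer_singleton_iff.mp (Coprime.le_of_centralizer_noncyclic_le (A := A)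
    (M := centralizer {w}) (not_isCyclic_four hw hv hne hc)
    (sup_le (zpowers_le.mpr hwU) (zpowers_le.mpr hvU)) hcop ?_ hk)).symm
  intro a ha ha1 r hr
  obtain ⟨hrU, hra⟩ := hr
  have haw : Commute a w := by
    rcases mem_sup_zpowers hw hv hc ha with rfl | rfl | rfl | rfl
    exacts [Commute.one_left _, Commute.refl _, hc.symm, (Commute.refl w).mul_left hc.symm]
  have hao : orderOf a = 2 := orderOf_eq_two_of_mul_self (by
    obtain ⟨⟨k, hk⟩, hk2⟩ : ∃ x : A, (x : G) = a := ⟨⟨a, ha⟩, rfl⟩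
    rcases mem_sup_zpowers hw hv hc ha with rfl | rfl | rfl | rfl
    · exact absurd rfl ha1
    · exact mul_self_of_orderOf_eq_two hw
    · exact mul_self_of_orderOf_eq_two hv
    · calc w * v * (w * v) = w * (v * w) * v := by group
        _ = 1 := by
          rw [← hc.eq, ← mul_assoc, mul_self_of_orderOf_eq_two hw, one_mul,
            mul_self_of_orderOf_eq_two hv]) ha1
  have har : Commute a r := mem_centralizer_iff.mp hra a rfl
  rw [mem_centralizer_singleton_iff]
  by_contra hne'
  -- the commutator is inverted by `w` and centralised by `a`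
  set j := ⁅r, w⁆ with hj
  have hjU : j ∈ U := commutator_mem_of_normal hrU hwU
  have hj1 : j ≠ 1 := fun h => hne' (commutatorElement_eq_one_iff_mul_comm.mp h)
  have haj : Commute a j := by
    rw [hj, commutatorElement_def]
    exact ((har.mul_right haw).mul_right har.inv_right).mul_right haw.inv_right
  obtain ⟨m, hm⟩ := (IsPGroup.iff_orderOf.mp hU) ⟨j, hjU⟩
  rw [Subgroup.orderOf_mk] at hm
  have hm0 : m ≠ 0 := fun h => hj1 (orderOf_eq_one_iff.mp (by rw [hm, h, pow_zero]))
  have hdvd : p ∣ orderOf j := hm ▸ dvd_pow_self p hm0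
  refine hno (j ^ (orderOf j / p)) (pow_mem hjU _) ?_ ?_ a ha hao haw (haj.pow_right _)
  · exact orderOf_pow_orderOf_div (orderOf_pos j).ne' hdvd
  · rw [← conj_pow, hj, conj_commutator_inv hw, inv_pow]

end FourGroup

section Line

variable [Finite G] {Ω : Type v} [MulAction G Ω] {S : Subgroup G} {C : Set Ω}

/-- A four-group normalises some Sylow subgroup of an odd normal subgroup. -/
theorem rankTwo_inf_normalizer {p : ℕ} [Fact p.Prime] {T K U : Subgroup G} (hT : RankTwo T)
    (hK : Odd (Nat.card K)) (hKT : K ≤ T) (hTK : T ≤ normalizer (K : Set G)) (hU : IsSyl p K U) :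
    RankTwo (T ⊓ normalizer (U : Set G)) := by
  obtain ⟨s, hs, t, ht, hs2, ht2, hne, hc⟩ := hT
  obtain ⟨n, hn⟩ := IsPGroup.iff_card.mp (isPGroup_four hs2 ht2 hc)
  haveI : Group.IsSolvable K := Cfsg.Agent.S0205.result hK
  obtain ⟨P, hP⟩ := Coprime.exists_invariant_sylow (A := zpowers s ⊔ zpowers t) (K := K)
    (sup_le (zpowers_le.mpr (hTK hs)) (zpowers_le.mpr (hTK ht)))
    (by rw [hn]; exact hK.coprime_two_left.pow_left n) (Or.inr inferInstance) p
  obtain ⟨d, hd, hdU⟩ := (H29.Bender.sylow_map P).exists_conj hU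
  have key : ∀ g ∈ zpowers s ⊔ zpowers t, g ∈ T → d * g * d⁻¹ ∈ T ⊓ normalizer (U : Set G) :=
    fun g hg hgT => by
      refine mem_inf.mpr ⟨T.mul_mem (T.mul_mem (hKT hd) hgT) (T.inv_mem (hKT hd)), ?_⟩
      rw [← hdU]
      exact le_normalizer_map _ ⟨g, hP hg, rfl⟩
  refine ⟨d * s * d⁻¹, key s (mem_sup_left (mem_zpowers s)) hs, d * t * d⁻¹,
    key t (mem_sup_right (mem_zpowers t)) ht, by rw [orderOf_conj, hs2], by rw [orderOf_conj, ht2],
    fun h => hne (mul_left_cancel (mul_right_cancel h)), ?_⟩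
  show d * s * d⁻¹ * (d * t * d⁻¹) = d * t * d⁻¹ * (d * s * d⁻¹)
  simp only [mul_assoc, inv_mul_cancel_left]
  rw [← mul_assoc s, hc.eq, mul_assoc]

/-- `A1` for a `p`-group fixing the point of `w` and one more. -/
theorem inverted_le_kernel {T : Subgroup G} {L : Set Ω} (hG : Good T L)
    {U : Subgroup G} (hUT : U ≤ T) {w : G} (hw : w ∈ T) (hw2 : orderOf w = 2)
    (hwU : w ∈ normalizer (U : Set G)) {c x : Ω} (hc : c ∈ L) (hx : x ∈ L) (hcx : c ≠ x)
    (hwc : w • c = c) (hUc : ∀ g ∈ U, g • c = c) (hUx : ∀ g ∈ U, g • x = x) :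
    inverted U w ≤ kernel T L :=
  (inverted_le_iff hw2).mpr fun k hk => by
    have hj := commutator_mem_of_normal hk hwU
    exact mem_kernel.mpr ⟨hUT hj, hG w hw hw2 _ (hUT hj) (conj_commutator_inv hw2 k) c hc x hx hcx
      hwc (hUc _ hj) (hUx _ hj)⟩

/-- A line member inverting at least as much as a `MuMax` member is one. -/
theorem muMax_of_le {p : ℕ} (hS : SE S C) {U V : Subgroup G} (hU : MuMax p S C U)
    (hV : Member p S C V) {w : G} (hwU : w ∈ nor S U) (hwV : w ∈ nor S V) (hw2 : orderOf w = 2)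
    (h : Nat.card (inverted U w) ≤ Nat.card (inverted V w)) : MuMax p S C V :=
  ⟨hV, fun W hW s hs hs2 s' hs' hs'2 => (hU.2 W hW s hs hs2 w hwU hw2).trans
    (h.trans (hV.commCard_eq hS hwV hw2 hs' hs'2).le)⟩

end Line

theorem inverted_le {U : Subgroup G} {u : G} (hu : u ∈ normalizer (U : Set G)) :
    inverted U u ≤ U :=
  Coprime.commutator_le_left_of_normalizer (zpowers_le.mpr hu)

end Cfsg.Agent.H30.Bender
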