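import Cfsg.Agent.H30.Bender.Top
import Cfsg.Agent.H30.Bender.ModKernel

/-!
CASE A of notes/bender2.md, `p` prime to the number of involution classes of the line: the pair
stabilisers of a triangle have a common core, or a common centre of the Puig subgroup, and its
normaliser has a closed line.
-/

set_option autoImplicit false
set_option linter.style.haveILetI false

namespace Cfsg.Agent.H30.Bender

open Subgroup MulAction
open Cfsg.Agent.H39
open Cfsg.Agent.H29.Bender (IsSyl)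
open Cfsg.Agent.H26.Bender (nor lineOf)
open Cfsg.Agent.H73.Bender
open scoped commutatorElement

universe u v

variable {G : Type u} [Group G] [Finite G] {Ω : Type v} [MulAction G Ω] [Finite Ω]
variable {S : Subgroup G} {C : Set Ω} {p : ℕ} [Fact p.Prime] {U Q : Subgroup G} {w : G} {x y c : Ω}

namespace Top

/-- A `p`-group of the pair stabiliser as large as `Q`, fixing `c`, with involutions of its
normaliser at `x` and `c`, grows to a Sylow subgroup with the same properties. -/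
theorem grow (h : Top p S C U Q w x y c) (hp : p ≠ 2)
    (hB1 : ∀ V, MuMax p S C V → ¬ RankTwo (nor S V) → ∀ z ∈ lineOf S C V,
      ¬ p ∣ invBar (nor S V) (lineOf S C V) z)
    {P : Subgroup G} (hPp : IsPGroup p P) (hPD : P ≤ pair S x y) (hPc : ∀ g ∈ P, g • c = c)
    (hwP : w ∈ normalizer (P : Set G)) (hxP : x ∈ lineOf S C P)
    (hmu : Nat.card (inverted U w) ≤ Nat.card (inverted P w)) (hbig : Nat.card Q ≤ Nat.card P) :
    ∃ R : Subgroup G, IsSyl p (pair S x y) R ∧ (∀ g ∈ R, g • c = c) ∧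
      w ∈ normalizer (R : Set G) ∧ x ∈ lineOf S C R := by
  induction hn : Nat.card G - Nat.card P using Nat.strong_induction_on generalizing P with
  | _ n ih =>
  subst hn
  set D := pair S x y with hD
  have hwS : w ∈ S := h.w_mem.1
  have hwD : w ∈ normalizer (D : Set G) := H26.Bender.mem_normalizer_pair hwS h.w_inv h.w_swap
  have hcop : (Nat.card (zpowers w)).Coprime (Nat.card D) := by
    rw [Nat.card_zpowers, h.w_inv]
    exact (h.se.odd_pair h.x_mem.1 h.y_mem.1 h.ne).coprime_two_left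
  obtain ⟨R₀, hPR, hwR⟩ := Coprime.exists_invariant_sylow_ge (A := zpowers w) (K := D)
    (zpowers_le.mpr hwD) hcop (Or.inl (Coprime.isSolvable_zpowers w)) p hPD hPp
    (zpowers_le.mpr hwP)
  set R := (R₀ : Subgroup D).map D.subtype with hR
  have hRs : IsSyl p D R := H29.Bender.sylow_map R₀
  rcases eq_or_lt_of_le hPR with heq | hlt
  · exact ⟨P, heq ▸ hRs, hPc, hwP, hxP⟩
  -- CLIMB
  have hPS : P ≤ S := hPD.trans inf_le_left
  have hcP : c ∈ lineOf S C P := ⟨h.c_mem.1, w, ⟨hwS, hwP⟩, h.w_inv, h.w_fix⟩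
  have hnc : ∃ k ∈ P, ¬ Commute w k := by
    by_contra! hall
    rw [inverted_eq_bot_iff.mpr hall, Subgroup.card_bot] at hmu
    exact h.inverted_ne_bot (Subgroup.card_eq_one.mp (le_antisymm hmu Nat.card_pos))
  obtain ⟨U₁, hPU, hU₁, hwU, hsub, hinvle⟩ := climb h.se hp hPS hPp hwS h.w_inv hwP h.c_mem.1
    h.w_fix hPc ⟨c, hcP, x, hxP, h.c_ne_x⟩ hnc
  have hwU₁ : w ∈ nor S U₁ := ⟨hwS, hwU⟩
  have hmu₁ : MuMax p S C U₁ := muMax_of_le h.se h.mu hU₁ h.w_mem hwU₁ h.w_inv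
    (hmu.trans (Subgroup.card_le_of_le hinvle))
  have hline := hU₁.line h.se
  have hx₁ : x ∈ lineOf S C U₁ := hsub hxP
  have hc₁ : c ∈ lineOf S C U₁ := hsub hcP
  have hy₁ : y ∈ lineOf S C U₁ := h.w_swap ▸ hline.smul_mem hwU₁ hx₁
  set D₁ := pair (nor S U₁) x y with hD₁
  have hwD₁ : w ∈ normalizer (D₁ : Set G) :=
    H26.Bender.mem_normalizer_pair hwU₁ h.w_inv h.w_swap
  have hU₁D : U₁ ≤ D₁ := fun g hg =>
    mem_pair.mpr ⟨⟨hU₁.le hg, Subgroup.le_normalizer hg⟩, hU₁.fix hg hx₁, hU₁.fix hg hy₁⟩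
  have hD₁D : D₁ ≤ D := fun g hg =>
    mem_pair.mpr ⟨(mem_pair.mp hg).1.1, (mem_pair.mp hg).2⟩
  obtain ⟨Q₀, hUQ₁, hwQ₁⟩ := Coprime.exists_invariant_sylow_ge (A := zpowers w) (K := D₁)
    (zpowers_le.mpr hwD₁) (hcop.coprime_dvd_right (card_dvd_of_le hD₁D))
    (Or.inl (Coprime.isSolvable_zpowers w)) p hU₁D hU₁.isPGroup (zpowers_le.mpr hwU₁.2)
  set Q₁ := (Q₀ : Subgroup D₁).map D₁.subtype with hQ₁
  have hQ₁s : IsSyl p D₁ Q₁ := H29.Bender.sylow_map Q₀
  have hgrow : Nat.card P < Nat.card Q₁ := by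
    rcases eq_or_lt_of_le hPU with he | hl
    · obtain ⟨z, hzR, hzP, hzN⟩ := exists_mem_normalizer_not_mem hRs.pgroup hlt
      have hlt' : P < R ⊓ normalizer (P : Set G) :=
        lt_of_le_of_ne (le_inf hPR Subgroup.le_normalizer) fun e => hzP (e.symm ▸ ⟨hzR, hzN⟩)
      refine lt_of_lt_of_le (lt_of_le_of_ne (Subgroup.card_le_of_le hlt'.le) fun e =>
        hlt'.ne (Subgroup.eq_of_le_of_card_ge hlt'.le e.ge)) (hQ₁s.max _ ?_ ?_)
      · intro g hg
        obtain ⟨hgS, hgxy⟩ := mem_pair.mp (hRs.le hg.1)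
        exact mem_pair.mpr ⟨⟨hgS, he ▸ hg.2⟩, hgxy⟩
      · exact hRs.pgroup.to_le inf_le_left
    · refine lt_of_lt_of_le (lt_of_le_of_ne (Subgroup.card_le_of_le hPU) fun e =>
        hl.ne (Subgroup.eq_of_le_of_card_ge hPU e.ge)) (Subgroup.card_le_of_le hUQ₁)
  have hrank : ¬ RankTwo (nor S U₁) := fun hr => by
    rcases h.max U₁ Q₁ x y hmu₁ hr hx₁ hy₁ h.ne hQ₁s.pgroup hUQ₁ hQ₁s.le with hh | hh <;> omega
  have hdvd := hB1 U₁ hmu₁ hrank c hc₁
  have hQ₁' : IsSyl p (pair (nor S U₁) x (w • x)) Q₁ := by rw [h.w_swap]; exact hQ₁s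
  have hwQ₁' : w ∈ normalizer (Q₁ : Set G) := hwQ₁ (mem_zpowers w)
  have hfix := le_centMod_of_not_dvd hline hc₁ hx₁ h.c_ne_x hwU₁ h.w_inv h.w_fix hdvd hQ₁' hwQ₁'
  obtain ⟨⟨-, t, ⟨⟨htS, -⟩, htQ⟩, ht2, htx⟩, -⟩ :=
    exists_inv_at_of_not_dvd hline hc₁ hx₁ h.c_ne_x hwU₁ h.w_inv h.w_fix hdvd hQ₁' hwQ₁'
  refine ih _ (Nat.sub_lt_sub_left (hgrow.trans_le (Subgroup.card_le_card_group _)) hgrow)
    hQ₁s.pgroup (hQ₁s.le.trans hD₁D) (fun g hg => (mem_pair.mp (mem_inf.mp (hfix hg)).1).2.1)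
    hwQ₁' ⟨h.x_mem.1, t, ⟨htS, htQ⟩, ht2, htx⟩ ?_ (hbig.trans hgrow.le) rfl
  exact hmu.trans ((Subgroup.card_le_of_le hinvle).trans
    (Subgroup.card_le_of_le (inverted_mono hUQ₁ w)))

/-- CASE A, `p` prime to `invBar`. -/
theorem closedLine_of_not_dvd (h : Top p S C U Q w x y c) (hp : p ≠ 2)
    (hB1 : ∀ V, MuMax p S C V → ¬ RankTwo (nor S V) → ∀ z ∈ lineOf S C V,
      ¬ p ∣ invBar (nor S V) (lineOf S C V) z)
    (hdvd : ¬ p ∣ invBar (nor S U) (lineOf S C U) c) :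
    ∃ C' : Set Ω, Closed S C C' ∧ C' ≠ C ∧ Noncentral (setStab S C') C' := by
  have hwS : w ∈ S := h.w_mem.1
  have hcx : c ≠ x := h.c_ne_x
  have hsyl' : IsSyl p (pair (nor S U) x (w • x)) Q := by rw [h.w_swap]; exact h.syl
  have hfix := le_centMod_of_not_dvd h.line h.c_mem h.x_mem hcx h.w_mem h.w_inv h.w_fix hdvd hsyl'
    h.w_norm
  obtain ⟨⟨-, t, ⟨⟨htS, -⟩, htQ⟩, ht2, htx⟩, -⟩ :=
    exists_inv_at_of_not_dvd h.line h.c_mem h.x_mem hcx h.w_mem h.w_inv h.w_fix hdvd hsyl' h.w_norm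
  obtain ⟨R, hR, hRc, hwR, hxR⟩ := h.grow hp hB1 h.syl.pgroup (h.syl.le.trans h.pair_le)
    (fun g hg => (mem_pair.mp (mem_inf.mp (hfix hg)).1).2.1) h.w_norm
    ⟨h.x_mem.1, t, ⟨htS, htQ⟩, ht2, htx⟩
    (Subgroup.card_le_of_le (inverted_mono h.le w)) le_rfl
  set D := pair S x y with hD
  set D₁ := pair S c x with hD₁
  have hR₁ : IsSyl p D₁ R := by
    refine ⟨fun g hg => mem_pair.mpr ⟨(mem_pair.mp (hR.le hg)).1, hRc g hg,
      (mem_pair.mp (hR.le hg)).2.1⟩, hR.pgroup, fun P hP hPp => ?_⟩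
    obtain ⟨T, hPT, hT⟩ := H29.Bender.exists_isSyl_ge hP hPp
    refine (Subgroup.card_le_of_le hPT).trans (le_of_eq ?_)
    rw [hT.card_eq, hR.card_eq,
      h.se.card_pair_eq h.x_mem.1 h.y_mem.1 h.c_mem.1 h.ne hwS h.w_inv h.w_swap h.w_fix]
  have hodd : Odd (Nat.card D) := h.se.odd_pair h.x_mem.1 h.y_mem.1 h.ne
  have hodd₁ : Odd (Nat.card D₁) := h.se.odd_pair h.c_mem.1 h.x_mem.1 hcx
  -- the cores agree
  set K := Signalizer.core p D with hK
  obtain ⟨g, hg, hgx, hgy⟩ := h.main.2 x h.x_mem y h.y_mem c h.c_mem h.ne.symm hcx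
  have hmap : D.map (MulAut.conj g).toMonoidHom = D₁ := by
    ext d
    rw [Subgroup.mem_map_equiv, MulAut.conj_symm_apply]
    simp only [hD, hD₁, mem_pair, mul_smul, inv_smul_eq_iff, hgx, hgy]
    constructor
    · rintro ⟨hd, h1, h2⟩
      exact ⟨by simpa [mul_assoc] using S.mul_mem (S.mul_mem hg.1 hd) (S.inv_mem hg.1), h2, h1⟩
    · rintro ⟨hd, h1, h2⟩
      exact ⟨S.mul_mem (S.mul_mem (S.inv_mem hg.1) hd) hg.1, h2, h1⟩
  have hKfix := h.core_fix hp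
  have hKD₁ : K ≤ D₁ := fun k hk => mem_pair.mpr
    ⟨(mem_pair.mp (Signalizer.core_le D hk)).1, hKfix k hk,
      (mem_pair.mp (Signalizer.core_le D hk)).2.1⟩
  have hKeq : K = Signalizer.core p D₁ := Subgroup.eq_of_le_of_card_ge
    (le_core_of_syl hodd₁ hR₁ hKD₁ (Signalizer.not_dvd_card_core D)
      (hR.le.trans (Signalizer.le_normalizer_core D)))
    (card_core_le hmap)
  have hwD : w ∈ normalizer (D : Set G) := H26.Bender.mem_normalizer_pair hwS h.w_inv h.w_swap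
  obtain ⟨j, hj, hj2, hjc, hjR⟩ := h.se.exists_swapper h.c_mem.1 h.x_mem.1 hcx hR₁
  have hjD : j ∈ normalizer (D₁ : Set G) := H26.Bender.mem_normalizer_pair hj hj2 hjc
  have hUR : Nat.card U ≤ Nat.card R :=
    hR.max U (h.le.trans (h.syl.le.trans h.pair_le)) h.mu.1.isPGroup
  have hRne : R ≠ ⊥ := fun e => by
    rw [e, Subgroup.card_bot] at hUR
    have hU1 : U = ⊥ := Subgroup.card_eq_one.mp (le_antisymm hUR Nat.card_pos)
    exact h.inverted_ne_bot (inverted_eq_bot_iff.mpr fun k hk => by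
      rw [hU1, mem_bot] at hk; rw [hk]; exact Commute.one_right _)
  obtain ⟨Y, hY1, hYD, hYc, hDY, hD₁Y, hwY, hjY⟩ : ∃ Y : Subgroup G, Y ≠ ⊥ ∧ Y ≤ D ∧
      (∀ g ∈ Y, g • c = c) ∧ D ≤ normalizer (Y : Set G) ∧ D₁ ≤ normalizer (Y : Set G) ∧
      w ∈ normalizer (Y : Set G) ∧ j ∈ normalizer (Y : Set G) := by
    by_cases hKbot : K = ⊥
    · have hpuig : ∀ E : Subgroup G, Odd (Nat.card E) → IsSyl p E R →
          Signalizer.core p E = ⊥ → E ≤ normalizer (puigZ R : Set G) := by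
        intro E hE hER hcore d hd
        obtain ⟨k, hk, n, hn, rfl⟩ := le_core_sup_puig hp hE hER d hd
        rw [hcore, mem_bot] at hk
        rw [hk, one_mul]
        exact hn.2
      exact ⟨puigZ R, puigZ_ne_bot hR.pgroup hRne, (puigZ_le R).trans hR.le,
        fun g hg => hRc g (puigZ_le R hg), hpuig D hodd hR hKbot,
        hpuig D₁ hodd₁ hR₁ (hKeq ▸ hKbot), normalizer_le_puigZ R hwR, normalizer_le_puigZ R hjR⟩
    · exact ⟨K, hKbot, Signalizer.core_le D, hKfix, Signalizer.le_normalizer_core D,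
        by rw [hKeq]; exact Signalizer.le_normalizer_core D₁,
        Signalizer.normalizer_le_normalizer_core D hwD,
        by rw [hKeq]; exact Signalizer.normalizer_le_normalizer_core D₁ hjD⟩
  -- the line of the normaliser of `Y`
  set T := nor S Y with hT
  set L := lineOf S C Y with hL
  have hwT : w ∈ T := ⟨hwS, hwY⟩
  have hatc : ∀ i ∈ S, orderOf i = 2 → i • c = c → i ∈ T := by
    intro i hi hi2 hic
    obtain ⟨d, hd, rfl⟩ := h.se.fix_conj h.c_mem.1 h.x_mem.1 hcx hwS hi h.w_inv hi2 h.w_fix hic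
    have hn : d * w * d⁻¹ ∈ normalizer (Y : Set G) := mul_mem (mul_mem (hD₁Y hd) hwY) (inv_mem (hD₁Y hd))
    exact ⟨hi, hn⟩
  have hcL : c ∈ L := ⟨h.c_mem.1, w, hwT, h.w_inv, h.w_fix⟩
  have hxL : x ∈ L := by
    have hn : j * w * j⁻¹ ∈ normalizer (Y : Set G) := mul_mem (mul_mem hjY hwY) (inv_mem hjY)
    refine ⟨h.x_mem.1, j * w * j⁻¹, ⟨conj_mem_of_mem hj hwS, hn⟩, by rw [orderOf_conj, h.w_inv],
      ?_⟩
    have := conj_smul_of_smul (g := j) h.w_fix
    rwa [hjc] at this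
  have hline : SE T L := h.se.line inf_le_left hcL hxL hcx
  have hYodd : Odd (Nat.card Y) := hodd.of_dvd_nat (card_dvd_of_le hYD)
  have hYS : Y ≤ S := hYD.trans inf_le_left
  have hT2 : RankTwo T := by
    obtain ⟨v, hv, hv2, hne, hwv⟩ := h.se.exists_commute_inv h.rank hwS h.w_inv
    exact ⟨w, hwT, v, hatc v hv hv2 (h.se.fix_of_commute hv hwS h.w_inv hwv.symm h.c_mem.1 h.w_fix),
      h.w_inv, hv2, hne, hwv⟩
  have hTne : T ≠ S := fun e => hY1 (by
    have hle := h.se.le_kernel_of_odd h.rank hYS hYodd (e.ge.trans inf_le_right)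
    rw [show kernel S C = ⊥ from h.faithful] at hle
    exact le_bot_iff.mp hle)
  have hgood := (h.below G Ω T L (Or.inl (lt_of_le_of_ne (Subgroup.card_le_of_le inf_le_left)
    fun e => hTne (Subgroup.eq_of_le_of_card_ge inf_le_left e.ge))) hline hT2).1
  have hYker : Y ≤ kernel T L := fun g hg => mem_kernel.mpr ⟨⟨hYS hg, Subgroup.le_normalizer hg⟩,
    H26.Bender.fix_all_of_normal hline inf_le_right hcL hYc g hg⟩
  have hTL : T ≤ setStab S L := fun g hg => mem_setStab hg.1 fun z hz => hline.smul_mem hg hz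
  have hUD : U ≤ D := h.le.trans (h.syl.le.trans h.pair_le)
  refine ⟨L, ⟨fun z hz => hz.1, ⟨c, hcL, x, hxL, hcx⟩, fun i hi hi2 hc => ?_⟩, fun e => hY1 ?_,
    noncentral_of_inverted_le (h.mu.1.odd h.se) hwT h.w_inv h.w_mem.2 h.inverted_ne_bot hTL ?_⟩
  · obtain ⟨z, hz, hiz⟩ := hc
    obtain ⟨d, hd, rfl⟩ := hline.trans hcL hz
    have hin : d⁻¹ * i * d ∈ T := hatc _ (S.mul_mem (S.mul_mem (S.inv_mem hd.1) hi) hd.1)
      (by have := orderOf_conj d⁻¹ i; rw [inv_inv] at this; rw [this, hi2])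
      (by rw [mul_smul, mul_smul, hiz, inv_smul_smul])
    exact hTL (by simpa [mul_assoc] using mul_mem (mul_mem hd hin) (inv_mem hd))
  · have hle : Y ≤ kernel S C := fun g hg => mem_kernel.mpr ⟨hYS hg,
      e ▸ (mem_kernel.mp (hYker hg)).2⟩
    rw [show kernel S C = ⊥ from h.faithful] at hle
    exact le_bot_iff.mp hle
  · exact inverted_le_kernel hgood (fun g hg => ⟨h.mu.1.le hg, hDY (hUD hg)⟩) hwT h.w_inv
      h.w_mem.2 hcL hxL hcx h.w_fix (fun g hg => h.mu.1.fix hg h.c_mem)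
      (fun g hg => h.mu.1.fix hg h.x_mem)

end Top

end Cfsg.Agent.H30.Bender
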