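import Cfsg.Agent.H30.Bender.Climb
import Cfsg.Agent.H30.Bender.Chief

/-!
The choice of section 6 of notes/bender2.md: a rank two mu-maximal member `U` and an invariant pair
Sylow subgroup `Q` of its normaliser, lexicographically maximal.
-/

set_option autoImplicit false
set_option linter.style.haveILetI false

namespace Cfsg.Agent.H30.Bender

open Subgroup MulAction
open Cfsg.Agent.H39
open Cfsg.Agent.H29.Bender (IsSyl)
open Cfsg.Agent.H26.Bender (nor lineOf)
open Cfsg.Agent.H73.Bender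
open scoped commutatorElement

universe u v

variable {G : Type u} [Group G] {Ω : Type v} [MulAction G Ω]

/-- The data of CASE A. -/
structure Top (p : ℕ) (S : Subgroup G) (C : Set Ω) (U Q : Subgroup G) (w : G) (x y c : Ω) :
    Prop where
  below : MainBelow.{u, v} (Nat.card S) (Nat.card C)
  se : SE S C
  rank : RankTwo S
  faithful : Faithful S C
  mu : MuMax p S C U
  two : RankTwo (nor S U)
  x_mem : x ∈ lineOf S C U
  y_mem : y ∈ lineOf S C U
  c_mem : c ∈ lineOf S C U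
  ne : x ≠ y
  syl : IsSyl p (pair (nor S U) x y) Q
  le : U ≤ Q
  w_mem : w ∈ nor S U
  w_inv : orderOf w = 2
  w_norm : w ∈ normalizer (Q : Set G)
  w_swap : w • x = y
  w_fix : w • c = c
  max : ∀ (U' Q' : Subgroup G) (x' y' : Ω), MuMax p S C U' → RankTwo (nor S U') →
    x' ∈ lineOf S C U' → y' ∈ lineOf S C U' → x' ≠ y' → IsPGroup p Q' → U' ≤ Q' →
    Q' ≤ pair (nor S U') x' y' →
    Nat.card Q' < Nat.card Q ∨ Nat.card Q' = Nat.card Q ∧ Nat.card U' ≤ Nat.card U

variable [Finite G] {S : Subgroup G} {C : Set Ω} {p : ℕ} [Fact p.Prime]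

/-- A rank two mu-maximal member gives the data of CASE A. -/
theorem exists_top [Finite Ω] (hbelow : MainBelow.{u, v} (Nat.card S) (Nat.card C)) (hS : SE S C)
    (h2 : RankTwo S) (hF : Faithful S C) {U₀ : Subgroup G} (hU : MuMax p S C U₀)
    (hU2 : RankTwo (nor S U₀)) : ∃ U Q w x y c, Top p S C U Q w x y c := by
  classical
  obtain ⟨a, ha, b, hb, hab⟩ := hU.1.moves
  have hle : U₀ ≤ pair (nor S U₀) a b := fun g hg =>
    mem_pair.mpr ⟨⟨hU.1.le hg, Subgroup.le_normalizer hg⟩, hU.1.fix hg ha, hU.1.fix hg hb⟩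
  let P : Subgroup G × Subgroup G × Ω × Ω → Prop := fun q =>
    MuMax p S C q.1 ∧ RankTwo (nor S q.1) ∧ q.2.2.1 ∈ lineOf S C q.1 ∧ q.2.2.2 ∈ lineOf S C q.1 ∧
      q.2.2.1 ≠ q.2.2.2 ∧ IsPGroup p q.2.1 ∧ q.1 ≤ q.2.1 ∧
      q.2.1 ≤ pair (nor S q.1) q.2.2.1 q.2.2.2
  haveI : Nonempty {q // P q} :=
    ⟨⟨(U₀, U₀, a, b), hU, hU2, ha, hb, hab, hU.1.isPGroup, le_rfl, hle⟩⟩
  obtain ⟨⟨⟨U, Q, x, y⟩, hUmu, hUtwo, hx, hy, hxy, hQp, hUQ, hQle⟩, hmax⟩ :=
    Finite.exists_max fun q : {q // P q} =>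
      Nat.card q.1.2.1 * (Nat.card G + 1) + Nat.card q.1.1
  dsimp only at hUmu hUtwo hx hy hxy hQp hUQ hQle
  have key : ∀ (U' Q' : Subgroup G) (x' y' : Ω), MuMax p S C U' → RankTwo (nor S U') →
      x' ∈ lineOf S C U' → y' ∈ lineOf S C U' → x' ≠ y' → IsPGroup p Q' → U' ≤ Q' →
      Q' ≤ pair (nor S U') x' y' →
      Nat.card Q' < Nat.card Q ∨ Nat.card Q' = Nat.card Q ∧ Nat.card U' ≤ Nat.card U := by
    intro U' Q' x' y' h1 h2 h3 h4 h5 h6 h7 h8
    have hm := hmax ⟨(U', Q', x', y'), h1, h2, h3, h4, h5, h6, h7, h8⟩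
    dsimp only at hm
    have hU' : Nat.card U' ≤ Nat.card G := Subgroup.card_le_card_group U'
    have hUl : Nat.card U ≤ Nat.card G := Subgroup.card_le_card_group U
    rcases Nat.lt_or_ge (Nat.card Q') (Nat.card Q) with hlt | hge
    · exact Or.inl hlt
    have heq : Nat.card Q' = Nat.card Q := by
      by_contra hne
      have h : Nat.card Q + 1 ≤ Nat.card Q' := lt_of_le_of_ne hge (Ne.symm hne)
      have := Nat.mul_le_mul_right (Nat.card G + 1) h
      rw [add_mul, one_mul] at this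
      omega
    rw [heq] at hm
    exact Or.inr ⟨heq, by omega⟩
  have hline : SE (nor S U) (lineOf S C U) := hUmu.1.line hS
  obtain ⟨R, hQR, hR⟩ := H29.Bender.exists_isSyl_ge hQle hQp
  have hQ : IsSyl p (pair (nor S U) x y) Q := by
    have hQR' : Q = R := by
      refine Subgroup.eq_of_le_of_card_ge hQR ?_
      rcases key U R x y hUmu hUtwo hx hy hxy hR.pgroup (hUQ.trans hQR) hR.le with h | h
      · exact absurd (Subgroup.card_le_of_le hQR) (not_le.mpr h)
      · exact h.1.le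
    rw [hQR']; exact hR
  obtain ⟨w, hw, hw2, hwx, hwQ⟩ := hline.exists_swapper hx hy hxy hQ
  obtain ⟨c, hc, hwc⟩ := hline.exists_fix hw hw2
  exact ⟨U, Q, w, x, y, c, hbelow, hS, h2, hF, hUmu, hUtwo, hx, hy, hc, hxy, hQ, hUQ, hw, hw2, hwQ,
    hwx, hwc, key⟩

namespace Top

variable {U Q : Subgroup G} {w : G} {x y c : Ω}

omit [Finite G] in
theorem c_ne_x (h : Top p S C U Q w x y c) : c ≠ x := fun e =>
  h.ne (by rw [← h.w_swap, ← e, h.w_fix])

omit [Fact p.Prime] in
theorem line (h : Top p S C U Q w x y c) : SE (nor S U) (lineOf S C U) := h.mu.1.line h.se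

omit [Fact p.Prime] in
theorem nor_ne (h : Top p S C U Q w x y c) : nor S U ≠ S := by
  intro heq
  obtain ⟨t, -, -, k, hk, hnc⟩ := h.mu.1.noncentral
  have hle : U ≤ kernel S C :=
    h.se.le_kernel_of_odd h.rank h.mu.1.le (h.mu.1.odd h.se) (heq.ge.trans inf_le_right)
  have hk1 : k = 1 := by
    have := hle hk
    rwa [show kernel S C = ⊥ from h.faithful, mem_bot] at this
  exact hnc (hk1 ▸ Commute.one_right t)

omit [Fact p.Prime] in
theorem main [Finite Ω] (h : Top p S C U Q w x y c) :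
    Good (nor S U) (lineOf S C U) ∧ TwoTrans (nor S U) (lineOf S C U) := by
  refine h.below G Ω (nor S U) (lineOf S C U) (Or.inl ?_) h.line h.two
  refine lt_of_le_of_ne (Subgroup.card_le_of_le inf_le_left) fun e => h.nor_ne ?_
  exact Subgroup.eq_of_le_of_card_ge inf_le_left e.ge

omit [Fact p.Prime] in
theorem inverted_ne_bot (h : Top p S C U Q w x y c) : inverted U w ≠ ⊥ := fun e => by
  obtain ⟨k, hk, hnc⟩ := h.mu.1.exists_not_commute h.se h.w_mem h.w_inv
  exact hnc (inverted_eq_bot_iff.mp e k hk)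

/-- The lexicographic maximality, after CLIMB. -/
theorem lex (h : Top p S C U Q w x y c) (hp : p ≠ 2) {T P : Subgroup G} (hTS : T ≤ S)
    (hT2 : RankTwo T) (hP : IsPGroup p P) (hPT : P ≤ T) (hwT : w ∈ T)
    (hwP : w ∈ normalizer (P : Set G)) (hxT : x ∈ points T C) (hyT : y ∈ points T C)
    (hPx : ∀ g ∈ P, g • x = x) (hPy : ∀ g ∈ P, g • y = y)
    (hmu : Nat.card (inverted U w) ≤ Nat.card (inverted (P ⊓ kernel T (points T C)) w)) :
    Nat.card P ≤ Nat.card Q ∧
      (Nat.card P = Nat.card Q →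
        Nat.card (P ⊓ kernel T (points T C) : Subgroup G) ≤ Nat.card U) := by
  have hpo : Odd p := (Fact.out : p.Prime).odd_of_ne_two hp
  obtain ⟨U', Q', h1, h2, h3, h4, h5, h6, -, h8, h9, h10, h11⟩ :=
    climbTwo h.se hpo hTS hT2 hP hPT hwT hwP h.w_inv hxT hyT h.ne
  have hle : Nat.card (inverted U w) ≤ Nat.card (inverted U' w) :=
    hmu.trans (Subgroup.card_le_of_le (inverted_mono h1 w))
  have hmem : Member p S C U' := by
    refine ⟨(h3.trans h5).trans inf_le_left, ⟨x, h9 hxT, y, h9 hyT, h.ne⟩, h10, ?_⟩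
    by_contra! hall
    have h1' : inverted U' w = ⊥ := inverted_eq_bot_iff.mpr (hall w h6 h.w_inv)
    rw [h1', Subgroup.card_bot] at hle
    exact h.inverted_ne_bot (Subgroup.card_eq_one.mp (le_antisymm hle Nat.card_pos))
  have hmu' := muMax_of_le h.se h.mu hmem h.w_mem h6 h.w_inv hle
  have hQ' : Q' ≤ pair (nor S U') x y := fun g hg =>
    mem_pair.mpr ⟨h5 hg, h11 x hxT hPx g hg, h11 y hyT hPy g hg⟩
  rcases h.max U' Q' x y hmu' h8 (h9 hxT) (h9 hyT) h.ne h4 h3 hQ' with hlt | ⟨heq, hU⟩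
  · have hlt' := (Subgroup.card_le_of_le h2).trans_lt hlt
    exact ⟨hlt'.le, fun e => absurd e hlt'.ne⟩
  · exact ⟨(Subgroup.card_le_of_le h2).trans heq.le,
      fun _ => (Subgroup.card_le_of_le h1).trans hU⟩

/-- An element of order `p` inverted by `w`, all of whose centraliser fixes `c`. -/
theorem exists_special (h : Top p S C U Q w x y c) (hp : p ≠ 2) :
    ∃ e ∈ U, orderOf e = p ∧ w * e * w⁻¹ = e⁻¹ ∧ ∀ g ∈ S, Commute g e → g • c = c := by
  obtain ⟨v, hv, hv2, hne, hwv⟩ := h.line.exists_commute_inv h.two h.w_mem h.w_inv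
  obtain ⟨e, heU, heo, hinv, v', hv', hv'2, hv'w, hv'e⟩ := exists_inverted_centralised
    h.mu.1.isPGroup hp h.w_inv hv2 hne hwv h.w_mem.2 hv.2
    (h.mu.1.exists_not_commute h.se h.w_mem h.w_inv)
  refine ⟨e, heU, heo, hinv, fun g hg hge => ?_⟩
  have hcC : c ∈ C := h.c_mem.1
  have hwS : w ∈ S := h.w_mem.1
  have hv'S : v' ∈ S := (sup_le (zpowers_le.mpr hwS) (zpowers_le.mpr hv.1) :
    zpowers w ⊔ zpowers v ≤ S) hv'
  have hv'c : v' • c = c := h.se.fix_of_commute hv'S hwS h.w_inv hv'w hcC h.w_fix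
  -- ONE
  have hone : ∀ i ∈ S, orderOf i = 2 → Commute i e → i • c = c := by
    intro i hi hi2 hie
    obtain ⟨d, hd, hid⟩ := h.se.exists_fix hi hi2
    by_contra hne'
    have hdc : c ≠ d := fun hcd => hne' (hcd ▸ hid)
    have hwe := h.se.commute_of_two_points (X := (zpowers e : Set G)) hwS hi h.w_inv hi2
      (fun a ha => by
        obtain ⟨k, rfl⟩ := mem_zpowers_iff.mp ha
        rw [← conj_zpow, hinv]
        exact zpow_mem (inv_mem (mem_zpowers e)) k)
      (fun a ha => by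
        obtain ⟨k, rfl⟩ := mem_zpowers_iff.mp ha
        exact hie.zpow_right k) hcC hd hdc h.w_fix hid e (mem_zpowers e)
    rw [hwe.eq, mul_inv_cancel_right, eq_inv_iff_mul_eq_one] at hinv
    have hd2 : orderOf e ∣ 2 := orderOf_dvd_of_pow_eq_one (by rw [pow_two, hinv])
    rw [heo, Nat.prime_dvd_prime_iff_eq (Fact.out : p.Prime) Nat.prime_two] at hd2
    exact hp hd2
  have hgi := hone (g * v' * g⁻¹) (conj_mem_of_mem hg hv'S) (by rw [orderOf_conj, hv'2])
    ((hge.mul_left hv'e).mul_left hge.inv_left)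
  rw [mul_smul, mul_smul, ← eq_inv_smul_iff] at hgi
  exact (inv_smul_eq_iff.mp
    (h.se.fix_unique hv'S hv'2 (h.se.smul_mem (inv_mem hg) hcC) hcC hgi hv'c)).symm

omit [Finite G] [Fact p.Prime] in
theorem pair_le (_h : Top p S C U Q w x y c) : pair (nor S U) x y ≤ pair S x y := fun g hg =>
  mem_pair.mpr ⟨(mem_pair.mp hg).1.1, (mem_pair.mp hg).2.1, (mem_pair.mp hg).2.2⟩

/-- The core of the pair stabiliser fixes the point of the swapper. -/
theorem core_fix (h : Top p S C U Q w x y c) (hp : p ≠ 2) :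
    ∀ k ∈ Signalizer.core p (pair S x y), k • c = c := by
  obtain ⟨e, heU, heo, hinv, hCe⟩ := h.exists_special hp
  set D := pair S x y with hD
  have hwS : w ∈ S := h.w_mem.1
  have hwD : w ∈ normalizer (D : Set G) := H26.Bender.mem_normalizer_pair hwS h.w_inv h.w_swap
  have heD : e ∈ D := h.pair_le (h.syl.le (h.le heU))
  have hKD : Signalizer.core p D ≤ D := Signalizer.core_le D
  have hodd : Odd (Nat.card (Signalizer.core p D)) :=
    (h.se.odd_pair h.x_mem.1 h.y_mem.1 h.ne).of_dvd_nat (card_dvd_of_le hKD)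
  have hpo : Odd (orderOf e) := heo ▸ (Fact.out : p.Prime).odd_of_ne_two hp
  intro k hk
  refine (le_of_inverted (M := stabilizer G c) h.w_inv hpo hinv h.w_fix ?_ hodd
    (by rw [heo]; exact (Fact.out : p.Prime).coprime_iff_not_dvd.mpr (Signalizer.not_dvd_card_core D))
    (Signalizer.le_normalizer_core D heD) (Signalizer.normalizer_le_normalizer_core D hwD)
    (fun g hg hgw => ?_) (fun g hg hge => ?_) hk : k ∈ stabilizer G c)
  · exact h.mu.1.fix heU h.c_mem
  · exact h.se.fix_of_commute (mem_pair.mp (hKD hg)).1 hwS h.w_inv hgw h.c_mem.1 h.w_fix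
  · exact hCe g (mem_pair.mp (hKD hg)).1 hge

end Top

/-- A kernel containing a non-trivial `[U, w]` is non-central. -/
theorem noncentral_of_inverted_le [Finite G] {S : Subgroup G} {U T : Subgroup G} {L : Set Ω} {w : G}
    (hU : Odd (Nat.card U)) (hw : w ∈ T) (hw2 : orderOf w = 2) (hwU : w ∈ normalizer (U : Set G))
    (hne : inverted U w ≠ ⊥) (hTS : T ≤ setStab S L) (hle : inverted U w ≤ kernel T L) :
    Noncentral (setStab S L) L := by
  obtain ⟨k, hk, hk1⟩ : ∃ k ∈ U, ⁅k, w⁆ ≠ 1 := by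
    by_contra! hall
    exact hne (le_bot_iff.mp ((inverted_le_iff hw2).mpr fun k hk => mem_bot.mpr (hall k hk)))
  obtain ⟨hjT, hjfix⟩ := mem_kernel.mp (hle (commutator_mem_commutator hk (mem_zpowers w)))
  refine ⟨w, hTS hw, hw2, ⁅k, w⁆, mem_kernel.mpr ⟨hTS hjT, hjfix⟩, fun hc => hk1 ?_⟩
  have hinv := conj_commutator_inv hw2 k
  rw [hc.eq, mul_inv_cancel_right] at hinv
  have hodd : Odd (orderOf ⁅k, w⁆) := by
    rw [← Subgroup.orderOf_mk ⁅k, w⁆ (commutator_mem_of_normal hk hwU)]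
    exact hU.of_dvd_nat (orderOf_dvd_natCard _)
  exact orderOf_eq_one_iff.mp (Nat.eq_one_of_dvd_coprimes hodd.coprime_two_left
    (orderOf_dvd_of_pow_eq_one (by rw [pow_two]; exact mul_eq_one_iff_eq_inv.mpr hinv)) dvd_rfl)

end Cfsg.Agent.H30.Bender
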